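import Cfsg.Agent.H863.U33.ChkAll
import Cfsg.Agent.J4.DCosetThm
import Cfsg.Agent.BM.KHAll
import Cfsg.Agent.BabyM.TransCover
import Cfsg.Agent.BMx.Bridge
import Cfsg.Agent.FastGrp
import Cfsg.Agent.Prune
set_option linter.all false

section
prune_inst 0x7ffcfef9efbcafffffff7e7fffffdffdf9f97fffefdff9fbffedebff7fff6be7ebe5fbafefec92ffdef6e21610f87b13fbfffeffe06ffc7ffffdfff45ffbff9fedffbd0c51d6bc341ffe6ffffbf07fae7f3fffffffffffffffffffffffffffffffbfffffffff

-- part: H863/U33/Dat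
section
set_option linter.all false

/-!
# S5525, part F: abstract interface (helper863)

`TB y e t w k n`: the generators of `3^(1+8).2^(1+6).U4(2)` and an element `n` inverting `y`, with all relations.
The instance in the Baby Monster: `H863/U33/Inst.lean`.
-/

set_option autoImplicit false

namespace Cfsg.Agent.H863.U33

variable {G : Type*} [Group G]

/-- normal form of the elements of `P = ⟨y, e⟩` -/
def nf (y : G) (e : Fin 8 → G) (v : Fin 8 → ZMod 3) (b : ZMod 3) : G :=
  e 0 ^ (v 0).val * e 1 ^ (v 1).val * e 2 ^ (v 2).val * e 3 ^ (v 3).val * e 4 ^ (v 4).val * e 5 ^ (v 5).val *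
    e 6 ^ (v 6).val * e 7 ^ (v 7).val * y ^ b.val

/-- normal form of the elements of `W = ⟨t, w⟩` -/
def wnf (t : G) (w : Fin 6 → G) (m : Fin 6 → ZMod 2) (c : ZMod 2) : G :=
  w 0 ^ (m 0).val * w 1 ^ (m 1).val * w 2 ^ (m 2).val * w 3 ^ (m 3).val * w 4 ^ (m 4).val * w 5 ^ (m 5).val * t ^ c.val

/-- the relations -/
structure TB (y : G) (e : Fin 8 → G) (t : G) (w : Fin 6 → G) (k : Fin 2 → G) (n : G) : Prop where
  y3 : y ^ 3 = 1
  y1 : y ≠ 1
  e3 : ∀ j, e j ^ 3 = 1
  ey : ∀ j, e j * y = y * e j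
  ee : ∀ i j, e i * e j = y ^ (fm i j).val * e j * e i
  t2 : t * t = 1
  ty : t * y = y * t
  te : ∀ j, t⁻¹ * e j * t = nf y e (Mt j) (Ct j)
  w2 : ∀ a, w a * w a = t ^ (sqw a).val
  wt : ∀ a, w a * t = t * w a
  wy : ∀ a, w a * y = y * w a
  ww : ∀ a b, w a * w b = t ^ (bc a b).val * w b * w a
  we : ∀ a j, (w a)⁻¹ * e j * w a = nf y e (Mw a j) (Cw a j)
  kt : ∀ c, k c * t = t * k c
  ky : ∀ c, k c * y = y * k c
  kw : ∀ c a, (k c)⁻¹ * w a * k c = wnf t w (Kw c a) (Ke c a)
  ke : ∀ c j, (k c)⁻¹ * e j * k c = nf y e (Mk c j) (Ck c j)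
  nt : n * t = t * n
  ny : n⁻¹ * y * n = y⁻¹
  nw : ∀ a, n⁻¹ * w a * n = wnf t w (Nw a) (Ne a)
  ne : ∀ j, n⁻¹ * e j * n = nf y e (Mn j) (Cn j)

/-- `P = 3^(1+8)` -/
def PP (y : G) (e : Fin 8 → G) : Subgroup G := Subgroup.closure ({y} ∪ Set.range e)

/-- `U = P⟨t⟩` -/
def UU (y : G) (e : Fin 8 → G) (t : G) : Subgroup G := Subgroup.closure ({y} ∪ Set.range e ∪ {t})

/-- `O = P:2^(1+6)` -/
def OO (y : G) (e : Fin 8 → G) (t : G) (w : Fin 6 → G) : Subgroup G :=
  Subgroup.closure ({y} ∪ Set.range e ∪ {t} ∪ Set.range w)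

/-- `K = P:2^(1+6).U4(2)` -/
def KK (y : G) (e : Fin 8 → G) (t : G) (w : Fin 6 → G) (k : Fin 2 → G) : Subgroup G :=
  Subgroup.closure ({y} ∪ Set.range e ∪ {t} ∪ Set.range w ∪ Set.range k)

/-! ### The exact statements (owners: see the messages) -/

/-- (L1) normal form -/
def StNF : Prop := ∀ {G : Type} [Group G] {y : G} {e : Fin 8 → G} {t : G} {w : Fin 6 → G} {k : Fin 2 → G} {n : G},
  TB y e t w k n →
    (∀ p, p ∈ PP y e ↔ ∃ v b, p = nf y e v b) ∧
    (∀ v b v' b', nf y e v b = nf y e v' b' → v = v' ∧ b = b') ∧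
    Nat.card (PP y e) = 3 ^ 9

/-- action of an element on normal forms modulo `y`: `s⁻¹ nf v b s = nf (v M) _` -/
def Acts (y : G) (e : Fin 8 → G) (s : G) (M : Fin 8 → Fin 8 → ZMod 3) : Prop :=
  ∀ v b, ∃ b', s⁻¹ * nf y e v b * s = nf y e (fun j => ∑ i, v i * M i j) b'

/-- (L1') the generators act by their matrices -/
def StAct : Prop := ∀ {G : Type} [Group G] {y : G} {e : Fin 8 → G} {t : G} {w : Fin 6 → G} {k : Fin 2 → G} {n : G},
  TB y e t w k n →
    Acts y e t Mt ∧ (∀ a, Acts y e (w a) (Mw a)) ∧ (∀ c, Acts y e (k c) (Mk c)) ∧ Acts y e n Mn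

/-- (L2) orbits on `P ∖ ⟨y⟩`: representatives `e 0` (class 3A) and `nf vB 0` (class 3B) -/
def vB : Fin 8 → ZMod 3 := ![1, 0, 0, 0, 2, 0, 0, 1]

def StOrb : Prop := ∀ {G : Type} [Group G] {y : G} {e : Fin 8 → G} {t : G} {w : Fin 6 → G} {k : Fin 2 → G} {n : G},
  TB y e t w k n → ∀ p ∈ PP y e, p ∉ Subgroup.zpowers y →
    ∃ h ∈ KK y e t w k, h * p * h⁻¹ = e 0 ∨ h * p * h⁻¹ = nf y e vB 0

/-- (L3) the order of `O` -/
def StO : Prop := ∀ {G : Type} [Group G] {y : G} {e : Fin 8 → G} {t : G} {w : Fin 6 → G} {k : Fin 2 → G} {n : G},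
  TB y e t w k n → Nat.card (OO y e t w) = 3 ^ 9 * 2 ^ 7

/-- (L4) the order of `K` -/
def StK : Prop := ∀ {G : Type} [Group G] [Finite G] {y : G} {e : Fin 8 → G} {t : G} {w : Fin 6 → G} {k : Fin 2 → G} {n : G},
  TB y e t w k n → 65303470080 ≤ Nat.card (KK y e t w k)

/-- (L4') if `|C(y)| ≤ 65303470080`: `C(y) = K`, everything is normal, and an element of `K` which acts trivially on
`O / U` lies in `O` -/
def StC : Prop := ∀ {G : Type} [Group G] [Finite G] {y : G} {e : Fin 8 → G} {t : G} {w : Fin 6 → G} {k : Fin 2 → G} {n : G},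
  TB y e t w k n → Nat.card (Subgroup.centralizer {y}) ≤ 65303470080 →
    Subgroup.centralizer {y} = KK y e t w k ∧ Nat.card (Subgroup.centralizer {y}) = 65303470080 ∧
    (∀ g : G, (g⁻¹ * y * g = y ∨ g⁻¹ * y * g = y⁻¹) →
      (∀ p ∈ PP y e, g⁻¹ * p * g ∈ PP y e) ∧ (∀ p ∈ UU y e t, g⁻¹ * p * g ∈ UU y e t) ∧
      (∀ p ∈ OO y e t w, g⁻¹ * p * g ∈ OO y e t w)) ∧
    (∀ g ∈ Subgroup.centralizer {y}, (∀ p ∈ OO y e t w, p⁻¹ * (g⁻¹ * p * g) ∈ UU y e t) → g ∈ OO y e t w) ∧
    (∀ g ∈ OO y e t w, g ^ 9 = 1 → g ∈ PP y e)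

/-- (L6) `T ≤ P`: abstract form. `T = ⟨y, a, b⟩` of exponent 3 modulo `y`, normalised by `w0`, which permutes the four
subgroups of order 3 of `T/⟨y⟩` transitively -/
def StT : Prop := ∀ {G : Type} [Group G] [Finite G] {y : G} {e : Fin 8 → G} {t : G} {w : Fin 6 → G} {k : Fin 2 → G} {n : G},
  TB y e t w k n → Nat.card (Subgroup.centralizer {y}) ≤ 65303470080 →
    ∀ a b s : G, a ^ 3 = 1 → b ^ 3 = 1 → a * y = y * a → b * y = y * b → b⁻¹ * a * b = a * y →
      s⁻¹ * y * s = y⁻¹ → s⁻¹ * a * s = a ^ 2 * b ^ 2 → s⁻¹ * b * s = a * b ^ 2 * y → a ∈ PP y e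

end Cfsg.Agent.H863.U33
end

-- part: H264/U33/StO_mg
section
prune_inst 0x8000000000040000000c00000000000000000000000000000000000000000000000000000000000000000000000000000000000000004000000000
set_option linter.all false
open scoped Cfsg.Agent.FastGrp

-- part: H264/U33/StO
section
/-!
# S5525, part F, L3: the order of `O = 3^(1+8):2^(1+6)` (helper264)
-/

set_option autoImplicit false

namespace Cfsg.Agent.H264.U33.O

open Cfsg.Agent.H863.U33

section

variable {G : Type*} [Group G]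

/-- adjoining an element whose square is inside -/
theorem double {A : Set G} {s : G} (hs : s ∉ Subgroup.closure A) (hss : s * s ∈ Subgroup.closure A)
    (hn : ∀ a ∈ A, s⁻¹ * a * s ∈ Subgroup.closure A) :
    Nat.card (Subgroup.closure (A ∪ {s})) = 2 * Nat.card (Subgroup.closure A) := by
  set H := Subgroup.closure A with hH
  have hn' : ∀ h ∈ H, s⁻¹ * h * s ∈ H := by
    intro h hh
    have h1 : H ≤ H.comap (MulAut.conj s⁻¹).toMonoidHom := by
      rw [hH]
      refine (Subgroup.closure_le _).2 fun a ha => ?_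
      show MulAut.conj s⁻¹ a ∈ Subgroup.closure A
      rw [MulAut.conj_apply, inv_inv]
      exact hn a ha
    have h2 : MulAut.conj s⁻¹ h ∈ H := h1 hh
    rwa [MulAut.conj_apply, inv_inv] at h2
  let K : Subgroup G :=
    { carrier := {g | g ∈ H ∨ s⁻¹ * g ∈ H}
      one_mem' := Or.inl H.one_mem
      mul_mem' := by
        rintro g g' (hg | hg) (hg' | hg')
        · exact Or.inl (H.mul_mem hg hg')
        · right
          have e : s⁻¹ * (g * g') = (s⁻¹ * g * s) * (s⁻¹ * g') := by group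
          rw [e]
          exact H.mul_mem (hn' g hg) hg'
        · right
          rw [← mul_assoc]
          exact H.mul_mem hg hg'
        · left
          have e : g * g' = (s * s) * (s⁻¹ * (s⁻¹ * g) * s) * (s⁻¹ * g') := by group
          rw [e]
          exact H.mul_mem (H.mul_mem hss (hn' _ hg)) hg'
      inv_mem' := by
        rintro g (hg | hg)
        · exact Or.inl (H.inv_mem hg)
        · right
          have e : s⁻¹ * g⁻¹ = (s⁻¹ * (s⁻¹ * g)⁻¹ * s) * (s * s)⁻¹ := by group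
          rw [e]
          exact H.mul_mem (hn' _ (H.inv_mem hg)) (H.inv_mem hss) }
  have hK : ∀ g, g ∈ K ↔ g ∈ H ∨ s⁻¹ * g ∈ H := fun g => Iff.rfl
  have hHK : H ≤ K := fun g hg => Or.inl hg
  have hcl : Subgroup.closure (A ∪ {s}) = K := by
    apply le_antisymm
    · refine (Subgroup.closure_le _).2 ?_
      rintro g (hg | hg)
      · exact Or.inl (Subgroup.subset_closure hg)
      · rw [Set.mem_singleton_iff.1 hg]
        right
        rw [inv_mul_cancel]
        exact H.one_mem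
    · rintro g (hg | hg)
      · exact (Subgroup.closure_mono Set.subset_union_left) hg
      · have h1 : s⁻¹ * g ∈ Subgroup.closure (A ∪ {s}) := (Subgroup.closure_mono Set.subset_union_left) hg
        have h2 : s ∈ Subgroup.closure (A ∪ {s}) := Subgroup.subset_closure (Or.inr rfl)
        have h3 := mul_mem h2 h1
        rwa [mul_inv_cancel_left] at h3
  rw [hcl]
  have hrel : H.relIndex K = 2 := by
    rw [Subgroup.relIndex, Subgroup.index_eq_two_iff]
    refine ⟨⟨s, (hK s).2 (Or.inr (by rw [inv_mul_cancel]; exact H.one_mem))⟩, fun b => ?_⟩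
    rw [Subgroup.mem_subgroupOf, Subgroup.mem_subgroupOf]
    have hb : (b : G) ∈ H ∨ s⁻¹ * (b : G) ∈ H := b.2
    show Xor ((b : G) * s ∈ H) ((b : G) ∈ H)
    rcases hb with hb | hb
    · exact Or.inr ⟨hb, fun h => hs (by
        have := H.mul_mem (H.inv_mem hb) h
        rwa [inv_mul_cancel_left] at this)⟩
    · refine Or.inl ⟨?_, fun h => hs ?_⟩
      · have e : (b : G) * s = (s * s) * (s⁻¹ * (s⁻¹ * (b : G)) * s) := by group
        rw [e]
        exact H.mul_mem hss (hn' _ hb)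
      · have := H.mul_mem h (H.inv_mem hb)
        have e : (b : G) * (s⁻¹ * (b : G))⁻¹ = s := by group
        rwa [e] at this
  have := Subgroup.card_mul_index (H.subgroupOf K)
  rw [← Subgroup.relIndex, hrel, Nat.card_congr (Subgroup.subgroupOfEquivOfLe hHK).toEquiv] at this
  rw [← this, mul_comm]

/-- an element centralising the generators modulo `P` -/
theorem cent_mod {P : Subgroup G} {A : Set G} {z : G} (hA : ∀ a ∈ A, a ∈ Subgroup.normalizer (P : Set G))
    (hz : ∀ a ∈ A, a⁻¹ * (z⁻¹ * a * z) ∈ P) {g : G} (hg : g ∈ Subgroup.closure A) : g⁻¹ * (z⁻¹ * g * z) ∈ P := by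
  have hle : Subgroup.closure A ≤ Subgroup.normalizer (P : Set G) := (Subgroup.closure_le _).2 hA
  refine (Subgroup.closure_induction (p := fun g _ => g⁻¹ * (z⁻¹ * g * z) ∈ P) (fun a ha => hz a ha) ?_ ?_ ?_ hg)
  · have e : (1 : G)⁻¹ * (z⁻¹ * 1 * z) = 1 := by group
    rw [e]; exact P.one_mem
  · intro a b ha hb h1 h2
    have hb' := hle hb
    have e : (a * b)⁻¹ * (z⁻¹ * (a * b) * z) = (b⁻¹ * (a⁻¹ * (z⁻¹ * a * z)) * b) * (b⁻¹ * (z⁻¹ * b * z)) := by group
    rw [e]
    refine P.mul_mem ?_ h2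
    have h3 := (Subgroup.mem_normalizer_iff.1 ((Subgroup.normalizer (P : Set G)).inv_mem hb') (a⁻¹ * (z⁻¹ * a * z))).1 h1
    rwa [inv_inv] at h3
  · intro a ha h1
    have e : a⁻¹⁻¹ * (z⁻¹ * a⁻¹ * z) = a * (a⁻¹ * (z⁻¹ * a * z))⁻¹ * a⁻¹ := by group
    rw [e]
    exact (Subgroup.mem_normalizer_iff.1 (hle ha) _).1 (P.inv_mem h1)

/-- commutation up to powers of `t` -/
def Cm (t z s : G) (n : ℕ) : Prop := s * z = t ^ n * (z * s)

theorem Cm.mul {t z z' s : G} {n n' : ℕ} (h : Cm t z s n) (h' : Cm t z' s n') (ht : z * t = t * z) :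
    Cm t (z * z') s (n + n') := by
  unfold Cm at *
  have hc : z * t ^ n' = t ^ n' * z := (Commute.pow_right (show Commute z t from ht) n').eq
  calc s * (z * z') = (s * z) * z' := by rw [mul_assoc]
    _ = t ^ n * (z * s) * z' := by rw [h]
    _ = t ^ n * (z * (s * z')) := by simp only [mul_assoc]
    _ = t ^ n * (z * (t ^ n' * (z' * s))) := by rw [h']
    _ = t ^ n * (z * t ^ n' * (z' * s)) := by simp only [mul_assoc]
    _ = t ^ (n + n') * (z * z' * s) := by rw [hc, pow_add]; simp only [mul_assoc]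

end

section

variable {G : Type} [Group G] {y : G} {e : Fin 8 → G} {t : G} {w : Fin 6 → G} {k : Fin 2 → G} {n : G}

theorem nf_mem (v : Fin 8 → ZMod 3) (b : ZMod 3) : nf y e v b ∈ PP y e := by
  have he : ∀ j, e j ∈ PP y e := fun j => Subgroup.subset_closure (Or.inr ⟨j, rfl⟩)
  have hy : y ∈ PP y e := Subgroup.subset_closure (Or.inl rfl)
  unfold nf
  (apply mul_mem; apply mul_mem; apply mul_mem; apply mul_mem; apply mul_mem; apply mul_mem; apply mul_mem; apply mul_mem; exact pow_mem (he _) _; exact pow_mem (he _) _; exact pow_mem (he _) _; exact pow_mem (he _) _; exact pow_mem (he _) _; exact pow_mem (he _) _; exact pow_mem (he _) _; exact pow_mem (he _) _; exact pow_mem hy _)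

theorem t_ne (hNF : StNF) (h : TB y e t w k n) : t ≠ 1 := by
  intro ht
  have h1 := h.te 0
  rw [ht, inv_one, one_mul, mul_one] at h1
  have h2 : e 0 = nf y e (fun j => if j = 0 then 1 else 0) 0 := by
    unfold nf
    have : (1 : ZMod 3).val = 1 := rfl
    simp [this]
  rw [h2] at h1
  have h3 := ((hNF h).2.1 _ _ _ _ h1).1
  have h4 := congrFun h3 0
  revert h4
  decide

theorem t_not_mem (hNF : StNF) (h : TB y e t w k n) : t ∉ PP y e := by
  intro ht
  have hc := (hNF h).2.2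
  have hfin : Finite (PP y e) := Nat.finite_of_card_ne_zero (by rw [hc]; norm_num)
  have h1 : orderOf (⟨t, ht⟩ : PP y e) ∣ 3 ^ 9 := by
    rw [← hc]; exact orderOf_dvd_natCard _
  have h2 : orderOf (⟨t, ht⟩ : PP y e) ∣ 2 := by
    apply orderOf_dvd_of_pow_eq_one
    apply Subtype.ext
    show t ^ 2 = 1
    rw [pow_two]; exact h.t2
  have h3 : orderOf (⟨t, ht⟩ : PP y e) ∣ 1 := by
    have := Nat.dvd_gcd h1 h2
    have e1 : Nat.gcd (3 ^ 9) 2 = 1 := by norm_num
    rwa [e1] at this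
  have h4 : (⟨t, ht⟩ : PP y e) = 1 := orderOf_eq_one_iff.1 (Nat.dvd_one.1 h3)
  exact t_ne hNF h (congrArg Subtype.val h4)

/-- an element mapping the generators of `P` into `P` normalises `P` -/
theorem norm_of (hNF : StNF) (h : TB y e t w k n) {s : G} (hs : ∀ a ∈ ({y} ∪ Set.range e : Set G), s⁻¹ * a * s ∈ PP y e) :
    s ∈ Subgroup.normalizer (PP y e : Set G) := by
  have hc := (hNF h).2.2
  have hfin : Finite (PP y e) := Nat.finite_of_card_ne_zero (by rw [hc]; norm_num)
  have hfin' : Finite ((PP y e : Subgroup G) : Set G) := hfin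
  have h0 : s⁻¹ ∈ Subgroup.normalizer (PP y e : Set G) := by
    apply Subgroup.mem_normalizer_fintype
    intro p hp
    have h1 : PP y e ≤ (PP y e).comap (MulAut.conj s⁻¹).toMonoidHom := by
      refine (Subgroup.closure_le _).2 fun a ha => ?_
      show MulAut.conj s⁻¹ a ∈ PP y e
      rw [MulAut.conj_apply, inv_inv]
      exact hs a ha
    exact h1 hp
  have := (Subgroup.normalizer (PP y e : Set G)).inv_mem h0
  rwa [inv_inv] at this

theorem t_norm (hNF : StNF) (h : TB y e t w k n) : t ∈ Subgroup.normalizer (PP y e : Set G) := by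
  refine norm_of hNF h ?_
  rintro a (ha | ⟨j, rfl⟩)
  · rw [Set.mem_singleton_iff.1 ha, mul_assoc, ← h.ty, inv_mul_cancel_left]
    exact Subgroup.subset_closure (Or.inl rfl)
  · rw [h.te j]; exact nf_mem _ _

theorem w_norm (hNF : StNF) (h : TB y e t w k n) (c : Fin 6) : w c ∈ Subgroup.normalizer (PP y e : Set G) := by
  refine norm_of hNF h ?_
  rintro a (ha | ⟨j, rfl⟩)
  · rw [Set.mem_singleton_iff.1 ha, mul_assoc, ← h.wy, inv_mul_cancel_left]
    exact Subgroup.subset_closure (Or.inl rfl)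
  · rw [h.we c j]; exact nf_mem _ _

theorem cm_w (h : TB y e t w k n) (b a : Fin 6) : Cm t (w b) (w a) (bc a b).val := by
  unfold Cm
  rw [h.ww a b, mul_assoc]

/-- the generators up to step `i` -/
def gen (y : G) (e : Fin 8 → G) (t : G) (w : Fin 6 → G) (i : ℕ) : Set G :=
  {y} ∪ Set.range e ∪ {t} ∪ {g | ∃ j : Fin 6, j.1 < i ∧ w j = g}

theorem t_pow_even (h : TB y e t w k n) {m : ℕ} (hm : m % 2 = 0) : t ^ m = 1 := by
  obtain ⟨c, rfl⟩ : ∃ c, m = 2 * c := ⟨m / 2, by omega⟩
  rw [pow_mul, pow_two, h.t2, one_pow]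

theorem t_pow_odd (h : TB y e t w k n) {m : ℕ} (hm : m % 2 = 1) : t ^ m = t := by
  obtain ⟨c, rfl⟩ : ∃ c, m = 2 * c + 1 := ⟨m / 2, by omega⟩
  rw [pow_succ, t_pow_even h (by omega), one_mul]

theorem step (hNF : StNF) (h : TB y e t w k n) (i : Fin 6) (z : G) (f : Fin 6 → ℕ) (hzt : z * t = t * z)
    (hzN : z ∈ Subgroup.normalizer (PP y e : Set G)) (hz : ∀ j, Cm t z (w j) (f j)) (h0 : ∀ j, j < i → f j % 2 = 0)
    (h1 : f i % 2 = 1) :
    Nat.card (Subgroup.closure (gen y e t w (i + 1))) = 2 * Nat.card (Subgroup.closure (gen y e t w i)) := by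
  have hPle : PP y e ≤ Subgroup.closure (gen y e t w i) :=
    Subgroup.closure_mono fun a ha => Or.inl (Or.inl ha)
  have ht : t ∈ Subgroup.closure (gen y e t w i) := Subgroup.subset_closure (Or.inl (Or.inr rfl))
  have hgen : gen y e t w (i + 1) = gen y e t w i ∪ {w i} := by
    unfold gen
    ext g
    constructor
    · rintro (hg | ⟨j, hj, rfl⟩)
      · exact Or.inl (Or.inl hg)
      · by_cases hji : j.1 < i.1
        · exact Or.inl (Or.inr ⟨j, hji, rfl⟩)
        · have : j = i := Fin.ext (by omega)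
          rw [this]
          exact Or.inr rfl
    · rintro ((hg | ⟨j, hj, rfl⟩) | hg)
      · exact Or.inl hg
      · exact Or.inr ⟨j, by omega, rfl⟩
      · rw [Set.mem_singleton_iff.1 hg]
        exact Or.inr ⟨i, by omega, rfl⟩
  rw [hgen]
  refine double ?_ ?_ ?_
  · intro hmem
    have h2 := cent_mod (P := PP y e) (A := gen y e t w i) (z := z) ?_ ?_ hmem
    · have e1 : z⁻¹ * w i * z = t * w i := by
        have h3 := hz i
        unfold Cm at h3
        rw [t_pow_odd h h1] at h3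
        rw [mul_assoc, h3, ← mul_assoc, ← mul_assoc]
        have h4 : z⁻¹ * t = t * z⁻¹ := by
          rw [inv_mul_eq_iff_eq_mul, ← mul_assoc, hzt, mul_inv_cancel_right]
        rw [h4, mul_assoc t, inv_mul_cancel, mul_one]
      rw [e1, ← h.wt i, inv_mul_cancel_left] at h2
      exact t_not_mem hNF h h2
    · rintro a (((ha | ⟨j, rfl⟩) | ha) | ⟨j, hj, rfl⟩)
      · rw [Set.mem_singleton_iff.1 ha]
        exact Subgroup.le_normalizer (Subgroup.subset_closure (Or.inl rfl))
      · exact Subgroup.le_normalizer (Subgroup.subset_closure (Or.inr ⟨j, rfl⟩))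
      · rw [Set.mem_singleton_iff.1 ha]; exact t_norm hNF h
      · exact w_norm hNF h j
    · have hP : ∀ a ∈ PP y e, a⁻¹ * (z⁻¹ * a * z) ∈ PP y e := by
        intro a ha
        have h3 := (Subgroup.mem_normalizer_iff.1 ((Subgroup.normalizer (PP y e : Set G)).inv_mem hzN) a).1 ha
        rw [inv_inv] at h3
        exact mul_mem (inv_mem ha) h3
      rintro a (((ha | ⟨j, rfl⟩) | ha) | ⟨j, hj, rfl⟩)
      · rw [Set.mem_singleton_iff.1 ha]
        exact hP _ (Subgroup.subset_closure (Or.inl rfl))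
      · exact hP _ (Subgroup.subset_closure (Or.inr ⟨j, rfl⟩))
      · rw [Set.mem_singleton_iff.1 ha, mul_assoc, ← hzt, inv_mul_cancel_left, inv_mul_cancel]
        exact one_mem _
      · have h3 := hz j
        unfold Cm at h3
        rw [t_pow_even h (h0 j hj), one_mul] at h3
        rw [mul_assoc, h3, inv_mul_cancel_left, inv_mul_cancel]
        exact one_mem _
  · rw [h.w2 i]
    exact pow_mem ht _
  · rintro a (((ha | ⟨j, rfl⟩) | ha) | ⟨j, hj, rfl⟩)
    · rw [Set.mem_singleton_iff.1 ha, mul_assoc, ← h.wy, inv_mul_cancel_left]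
      exact hPle (Subgroup.subset_closure (Or.inl rfl))
    · rw [h.we i j]
      exact hPle (nf_mem _ _)
    · rw [Set.mem_singleton_iff.1 ha, mul_assoc, ← h.wt, inv_mul_cancel_left]
      exact ht
    · have hc : (w i)⁻¹ * t ^ (bc j i).val = t ^ (bc j i).val * (w i)⁻¹ :=
        (Commute.pow_right (Commute.inv_left (show Commute (w i) t from h.wt i)) _).eq
      rw [mul_assoc, h.ww j i, mul_assoc, ← mul_assoc (w i)⁻¹, hc, mul_assoc, inv_mul_cancel_left]
      exact mul_mem (pow_mem ht _) (Subgroup.subset_closure (Or.inr ⟨j, hj, rfl⟩))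

/-- **L3: the order of `O`** -/
theorem stO (hNF : StNF) : StO := by
  intro G _ y e t w k n h
  have hw0 := w_norm hNF h
  have s5 := step hNF h 5 (w 0 * (w 2 * (w 3 * w 4)))
    (fun j => (bc j 0).val + ((bc j 2).val + ((bc j 3).val + (bc j 4).val)))
    (by rw [mul_assoc, mul_assoc, mul_assoc, h.wt, ← mul_assoc (w 3), h.wt, mul_assoc, ← mul_assoc (w 2), h.wt, mul_assoc,
      ← mul_assoc (w 0), h.wt, mul_assoc])
    (mul_mem (hw0 0) (mul_mem (hw0 2) (mul_mem (hw0 3) (hw0 4))))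
    (fun j => (cm_w h 0 j).mul ((cm_w h 2 j).mul ((cm_w h 3 j).mul (cm_w h 4 j) (h.wt 3)) (h.wt 2)) (h.wt 0))
    (by decide) (by decide)
  have s4 := step hNF h 4 (w 5) (fun j => (bc j 5).val) (h.wt 5) (hw0 5) (cm_w h 5) (by decide) (by decide)
  have s3 := step hNF h 3 (w 2) (fun j => (bc j 2).val) (h.wt 2) (hw0 2) (cm_w h 2) (by decide) (by decide)
  have s2 := step hNF h 2 (w 4) (fun j => (bc j 4).val) (h.wt 4) (hw0 4) (cm_w h 4) (by decide) (by decide)
  have s1 := step hNF h 1 (w 0) (fun j => (bc j 0).val) (h.wt 0) (hw0 0) (cm_w h 0) (by decide) (by decide)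
  have s0 := step hNF h 0 (w 1) (fun j => (bc j 1).val) (h.wt 1) (hw0 1) (cm_w h 1) (by decide) (by decide)
  have st : Nat.card (Subgroup.closure (gen y e t w 0)) = 2 * Nat.card (PP y e) := by
    have hg : gen y e t w 0 = ({y} ∪ Set.range e) ∪ {t} := by
      unfold gen
      ext g
      constructor
      · rintro (hg | ⟨j, hj, rfl⟩)
        · exact hg
        · exact absurd hj (by omega)
      · exact fun hg => Or.inl hg
    rw [hg]
    refine double (t_not_mem hNF h) ?_ ?_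
    · rw [h.t2]; exact one_mem _
    · rintro a (ha | ⟨j, rfl⟩)
      · rw [Set.mem_singleton_iff.1 ha, mul_assoc, ← h.ty, inv_mul_cancel_left]
        exact Subgroup.subset_closure (Or.inl rfl)
      · rw [h.te j]; exact nf_mem _ _
  have hO : OO y e t w = Subgroup.closure (gen y e t w 6) := by
    unfold OO gen
    congr 1
    ext g
    constructor
    · rintro (hg | ⟨j, rfl⟩)
      · exact Or.inl hg
      · exact Or.inr ⟨j, j.2, rfl⟩
    · rintro (hg | ⟨j, hj, rfl⟩)
      · exact Or.inl hg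
      · exact Or.inr ⟨j, rfl⟩
  rw [hO]
  have e5 : ((5 : Fin 6) : ℕ) + 1 = 6 := rfl
  have e4 : ((4 : Fin 6) : ℕ) + 1 = 5 := rfl
  have e3 : ((3 : Fin 6) : ℕ) + 1 = 4 := rfl
  have e2 : ((2 : Fin 6) : ℕ) + 1 = 3 := rfl
  have e1 : ((1 : Fin 6) : ℕ) + 1 = 2 := rfl
  have e0 : ((0 : Fin 6) : ℕ) + 1 = 1 := rfl
  have f5 : ((5 : Fin 6) : ℕ) = 5 := rfl
  have f4 : ((4 : Fin 6) : ℕ) = 4 := rfl
  have f3 : ((3 : Fin 6) : ℕ) = 3 := rfl
  have f2 : ((2 : Fin 6) : ℕ) = 2 := rfl
  have f1 : ((1 : Fin 6) : ℕ) = 1 := rfl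
  have f0 : ((0 : Fin 6) : ℕ) = 0 := rfl
  rw [e5, f5] at s5
  rw [e4, f4] at s4
  rw [e3, f3] at s3
  rw [e2, f2] at s2
  rw [e1, f1] at s1
  rw [e0, f0] at s0
  rw [s5, s4, s3, s2, s1, s0, st, (hNF h).2.2]
  norm_num

end

end Cfsg.Agent.H264.U33.O
end

-- part: H966/U33/Orb
section
/-!
# The two orbits on the nonzero vectors of `F_3^8` (helper966, S5525 box L2)
-/

set_option autoImplicit false
set_option maxRecDepth 100000

namespace Cfsg.Agent.H966.U33.Orb

open Matrix

/-- Vectors. -/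
abbrev Vec := Fin 8 → ZMod 3

/-- The rows of the matrices, 48 bits each, 6 bits per entry. -/
def ROWS : ℕ := 0x41000002000002000082000000040000041000082000040081000040000040000042000000001000081000042000001040000000000041000000000000002000000000041000000000000000042000000000080000000081000000000001000001000000000080000000000000002000000000040000000000000001000000000080000000000000002000000000040000081000000000082000000041000000000081000000000000000000081000000000082000000041000000000081000000001000000000040000000001000000000040000000000000000000002000000000080000000002000000000080000040000000000001000000000000080000000000002000000000000040000000000001000000000000080000000000002000000040000000000001000000000000040000000000001040000000000001000000000000040000000000001000000080000000000002000000000000080000000000002000000000000040000000000001000000000000040000000000001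

/-- The generator to apply, 4 bits each. -/
def GEN : ℕ := 0x6660676740766616476576176676667766476766566655676676676273677767776677364667567466677664166656656676766767726776646775776671767667760756177777757774340767526746566777777777676177771676763345676677777777677754676476366777766677767666757676567777776667776136666677766677746676671676677177467776367766774677736074677767646766666076666156667364676676676677776666676660661646676676677773677566673670765766463766777677456606577777676475665606577756777677763756773667767766657077766657676757776735677737376777766727676167677767376775677766277666613777067767767042766676676676777677737677707766175366647775677773775677736774676660747777760767767466676676674677553577777777762616627567777777715346446376626417467666776677666756676676676617666667776716773764776775561677677776666766747677777767637736735757477667764765654657657471666661627676177764676166746766766776676607736666563776667660776473776667677677717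6767703677707567575744777667147777777557766676663465646663637166566645767657665767667667460771777576666666276672675776761777663666670746666677773546766666667677776776177676777757666767776776736577376767735657767766667777167277676655666776777106767777677177773676767777666776777737777766646764677676661766662366677767766777746766777757667666076777777466766775757777667765676676667116066167745777756765777776777777652775617077766757767766777707667666764646267665677676657776777767136757672645647767676616774625624777776375667276611066766755366767756636336666456776466677067757677777766576770775667766766677777766677777627777677776715676666561776677666166776777777767761567767766676677177177666777677566717677367736677633716664777673777767677670776677037536676764777474777667776666766756776666762661677667676645637767177777777375366776777717676670677777766777577667777577666174667777764763766676767755677777763677767754667776566677747166677677766775677617767636366776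7746712577777763377776676747743366577677776766777066376756664766767664626666776676066667576707666665756662777776676646766673666667663166617630660766677767637256616766667776776276676667663046776666616766147625666661167606676666167066767356506726676663666566774534066317666316714766676666676367134777777476777747315675364661666666677767764476767677776570674776666666767567377176767777766777773662676766556676676577666676674677667776436667662766566767667667776366666777666666477737467666677677777767677776357737666767777776677664757757774665366676716766626676663666777642066757766666662640767776666636664676676676667677776666666775666756734744377666766566767673677776547657776767563677666676771714717776777777673777777766656576565777767775057777776707764675757677776177667777777577766764624476466636716666666477667667577717775777776756677767677777677657577776777667656466676656466776677467707667647377777677777376776767777677777667667777767776647656766776646461776677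7677077777737167464767476767366677464664776077631736057661676676676565136175632666661646766656656627774676676676670765663566667676646676676676673677466677677765757464447766675736376665677767677746671676176677267776077367767704677736777607667746765656677677776676777774677463347676677776777677737646773667760776776770766677656777776677777766654646576767767066776671674766675767767677756407777037777377737766726566667666147766666176276676676624666666376661656576676676377170766773677774776567466077777767276677772676765666676677776777677777676776266077766577067666677656777776777677766377777776774666667376777776775677756774677667757077767767767461676576676773677737675677756774676667377777576777677766177666665777757467367731766676676675656446377706707776666615767706757764746573676617604767676766677666766636661666656777676657276775567730776667776771766607676657777776667767777667777767776766674676761677763776647710777776576706677736767667767077774707767766177767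7673777667673776774776277577766677770617677777766676667776637670776766777666777676066566666617667671607676076476777677017766777567767675777777777775377637675777677617734677677766776366606767777677707166576777575667716466677407766677777677617677776764336666426767777677747066607677751577717776606777376247767667666665766767777626766666673667606566777617266666667766377677666667316566546446666146761667665646776775567750667576666577677766666465666277777676665676666766366666367666776763776667773767525676167662663666677766776723767361617476627656663676332771677777677077743666676666366767707076367366647677666776517766626766775777677662677777677477717677757710766767174777666667607677777754776666673673775777677777757706677646677677667675667666771677166676667616764636367676667616777677467566757576666666617566666676567473563677773177676564673677777734566667677653777777677777764777177675677477615666654666767766673774557776777673762764744326666776507777670666777277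7770636316677777777667076177675466676667654676767766676267776776746636360677666776765766661675635764766776076706674767775766376760674765775776776774666746647776777674577076766647637656776737774777767175366716677616777775746775706366666667677076763756770676367637576667457617376726666775777776556736666665667167777763676765235747765675477766666665467566777765677766776777617643673666466467177773776667774774777776776675770777667677760776766676776775777677666676536513757677777777667776776774776776376766576667776476665766655667663676767766646267706777466766567676666626765766666605635764666674757776766676776777776467766666732547730706757777647776756776076756716656676617667667717767477677776776667712457366767666417776777627736776755772776767777777667736776756766676267666361677466676667776376465654666763663656675166776765574365676775777336774167375366666637672577773176776776666676717776776766776777677267657776776776776604766775676676747645466615176777774761766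657756771677557776766660637656767667661176736676777777676376716666367361667777717576765675767065675347666666665517747646776776666656716746776776666477157665176766556736667615736347367710675566676566666736446776770772166744306706656766666711774767757677666757677666606766704665667446676513776667666776673766776563215147666656765765675776765675776467617665761761666741376775771775677036476776766566666775771667757577666767577666676766073477757665776776666176561756776776665577143626675716776677766126466717616767677661567155516173766776676636776676565736666267267666665766765675476765675476567677665757677166367257077677767206567636776767677666677767026663667666667666756615766770767577616567657706637767216566654076737673166647767126566677776666667766676166771667667776667667774776776663667167774667667776776776663776776665776771665335435200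

/-- The distance to a representative, 5 bits each. -/
def DEP : ℕ := 0x9420a941d23298e6414c539c84324ea414e5298a6218e929ce8420e2498c4395092a0a93a0e4310e639509394c3414e429486421092a4c531ce6318e7298a752509390862a107310c62a129420a72a1093954538cc5198e631cc7318a6324c62986530cc6320e941d47394e5398a6424e44a525410a7218e439d274210a3a127390893a468310e811ca841ca740d0441ca73190431c88420a94a108218a72a107310c6425272a8a71a0e529d06298e83a0a9314c532908418a4318a5291072988531ca7418c6198c2318e929ce8424e4414a729ca63a4c621ca9494863950429109420a9399033908549d282a0c7221272950549ce7298a5414e4294a642147428c6214c6218e83a0a94246831107218a53a1073a1083ace729129514e43212438508298e821c88418a739c873950739cc72a0c951107494c739cc829888424c7294e73a0c732086318ca490e4419063a4e431ca529887294a621c8639ce639cc421924318c6524852a0e741d0641105414c8320e8298e7314e5310e64a888298673a4e7310a621c8630ce7290a619ce6318e528ca4314a5294a8320a8290e821d033988531cc82a0a63a0a4290a3214873a068388a631ce5398a630ce7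31cc5318451a08541ce229ce7414e4320833a0e749487414c621cc8418a822506418a7298c8318a73952629925320e54a868394c832923298c53108339905218c62a0a93a5093a067410e531d053a52929ce8110a64188639ca731ce549ca44a0e6514c529d282a0e532066220c5218e53208741cc23212651ce3288e5314a63950a39527394a8318c73a0a62908431c872a0c91a0c831109394c829cc7214e5318c529907294e73a52829907114e7418a9414a83290941c66390a531cc739c88298c9318e94912731489398a929ca819447294a73988729ca8321062a489418c631ca9314c928ce83210529cc639505310e8298c5318e8315274a48931d082a944298a63148339106318e8414c9498693988629465318a621929328e7218c6414c839883314c521ce4424e53a0a729ce82a4a839cc431c86318c7394a839d0831d083a5441a4a731ce83210739cca4948449cc831d0441d042210749065499073a4a6224a93a107398e720ce52a0c641ce8420e739d4921506408a841ce73a1264a88631ca4418e7220a8298e73a4c61a4883a144215263a1083a0e739067399063a0c629484198a521ce731ce62946611466290674150641ca529cc63a0a520d0721d0520ce8390e829086194e52210811cc3424a941c66294c6218e9398ca220e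4314c6210a33a4e531c6749d47219253a46739926295063a4c731d05310c730ce7394884a0ca20d0640ce52a1073a50b39d07214e63988841cc951ca91950751d464a10449cc740ce541ce43a4c5320e4410e839d055252641902414c7390a63150841125418e729926310c64a145420c321d082a4e531ce8314a6418c6220e741cc621846318c83212722485414e54188849cca3a8c84208740d052a507221282a4a341d2851ce840ce721d0621d08394e721ca841105420e73a1052988841cc43948428cca394ca2992421ca529c8539ca2420a839d4731d2449c86414e73a08539ce8394c8310c6310c7398e93a8a839867390a931ca621d08224e42a4a639885394aa424e731c664210349506314a831ce731d0831466398c330ca5318ea390c93a4c42a0a9398e72210541ce8508e939cc441ca8298ea2992539ce749548190c5298c6420c531c86394e421ca540866414c6490a929d26414a8414c7421254a0253954739d0549ca5499272a505398c8490a539885414e3398a6399072950529c4139887194e631cc5398c739864218a530c48318e531cc61948721507398a43108619108398c8398a4398c639cc529d0442065308e729ca629cc7398a922106394c7220e5320a43a0c8418c739905398c43a0a6314e63a0a649d4a1a4c7420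8950ca6318a6190e6218e6214e84292729907090c739ca9394c83a5093a087414a6298a7320a829ce9298e948d0729488418a929ca711468294a62a0e639d083152a31127390c520ca7314e43a926518e4318c829d0839086298a539c6949ca7398e5399044990739ca738cc629905294c721ca83a4e93a047414e5321244250829d0719486398a539ca731cc449ca3424e6494e531d49224c52a0851a0a4294a839906314c8210e83212629905318a62a1062a4a84190731ca7320c629ce441ca5414e84152a220e5324ca488c6318a521107319053a0e619928328c72106621c85318c951c8939c8441cc73a10639483218e5391064112641c6841ca7398c7390c6218c529105320c742507420ea4908832465420c841d083254331904220c730d05414c8419262912442109190a92a10841d0741c84418c72910739d07321074a8634110539ce54a0e839d4a2146831ce739ca83a08541ce9210a932108494c4511073a0e73210421d0541908318861948629088398c739885198652188421ce63990831887398e7314a241ca741484320e53a0a4298863946742069220e8424c3394a6298863a4c6198a9494a631503314e84208939d24394a649d48220e72a107298e549ce7218a439505214a72a10941c86318a83a0c5318e84a0c92988741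8a639c8641d082a4c4298eb49d2628cc6310c5418c5194c731d063184630cc64210b42126310a628ce741ce54a122498a8314a631ce841ce94a147394894a4a71990929c49394c740d054a0e539d0441c8842108424a8314a7414a741cc631d493a8e5214c841cc531889420e8218c742905510e42908539ca831cc7214a8318a6198a3314e8420893990221ce6390c541c85324c9414e521ca7299092a0e9424c3498c43950929ca93a0e5314e7414e9394a4390e3294a742149428e721c86398c741c69428a72190529c87325073a168424e72152840d0621d2339508394e822088410e632087395073a487314ea510c539ce739cc71a0a829907419252a0e629ca71a0c9511063110849cc5294e5310c5118e4290a439ce5398c4214c6391274a8673a0a639cc6414c43a127398a73a10739924398c74a4a719ca831927218c4214c4314a438cc4318e729ce6294c3290c4290a7320c8314e7298e341c85318a8320a63a085314c4214a73a06738ca5318c5398c630ce731ce52946622066420e342085390e7394a6310a521d4721d253a084390a6390c731468495273a8e63a888394c929cc6414a739906298e6198e6198e629909391242a0872a0e3420e751d2741d0539c8721507390e949905120ea4acc742087394e7394e849cc7394c54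1c682a107318e94288841847390a831ca6219282a1052a0c539885318aa4a4e729c464a0e449106318a73a10631ce731486314c3310c4318e33a1064946731c87298e83994851d08390a82a0e4420e64a4e440ca83ace9324e72a0c639c862a0e729d06299082a08741ce73986749507310e4218c42a14731d4449ca6298e3214864a08638d083a8e53a4c7490e72a0e6320c6414e739cc5218e711ce72954849d064050631cc5218c64a0e3494e631c85498c531d285150830c87424c8394c741cc529ce6298a8320e63148519ca629d0639d05320c749ce529ce43210849548110e5498c7411472150649c89414e63a123314e6198e5390e5294c539ca5414a8180c9390a8324e531c8931d081a50541d0848ce931ca541ca9298e929d053a0e841528110e5298e541ca529c85314e521cc5384862910429cc7314a7318e730c84390a620d0631ca631ce228d04220e739466214e219ce639ce8314a731cc7398c442068390c5120a83210429d04219034a50741ce730c8841464491293a0e82a10521ce82a4e730ce93a0ea3a10451d074a0e829107390e839cc4194c5390e64a0c8410a739d06418c531cc94990521ce6290a2214e8398c7398e53a52a31c861994649d26290c3390a731c8921cc841c843a0e92a085298c8294a531ca94a4e6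310a83a0aa414c4290c631cc639d0831d2820ce74a4e92a085294a511d0639884288a63a0c8494e419d0629cc8298c649cc8410a630c65394c53a0e73a4c7298ca3a4e8314874a547390c4310e431ce72a0e929d0619d06211054a507395073948840ca640d49420a831d0429ce831cc51150a320ea41d05498e651d08210e6390e8421074152829ca64a127398a4290a6320c639d064952531524398e8394a7320a6298e739d283a0a821d283a12820ca4090a43a0e531d2731885490c752108198e62a0e539547395464a067414c5390c6414e531d0532087320a8498e629128420c3314c3314a73a0a629c86328e82a4c838905398a6394ca314ea4210429cc9314a4318c62a1054190529128420a8220c732106198c6198c6394e7318e7388653148639cc6418e631ce4214e521d08318c7318e6390c8320c641ca419084198c819084214c63a0e6424a418ce7418e8290e8310692a548398c8398c4420853204a4a0e441ce8194e741ce520cc7519074a108224e63a8c8414883a086420e7310a6194e6419082a0a4324e539d05398a831d08194c5210c62988739d06418c529d4749d27210c94a8e62988729ca639ce639d0549ca73152941cc520ca4298c8318e741d25410c5515063a0e531cc821485321074a50829ca7420e849ca23144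520ce73948431ca629cc839d09198e8320c831c8541d0831ca439cc42146331d073190829cc64a147394c43a8e93a4c419887298e73950549d08194c8214a7225273a4c7394853a0c3224a949ce749508290e6415273988749ce649d08228e7328e7490a839c6741ce929cc8418a5324c9220a6218e721486320a94a0c730c883a0c9410c5214a63a0c539d2932107290e7525082a065290a5198e63a0a731c85328c8324c938d0639ca6414a9298ea41ce429ce8394a3314e6220e53990620d07420a821cc72a106194c6198c5414c741cc61994529d483a086398a84150451d054950821d26314c431505398a7410c7220c82a106414a34a109290c6308a6320a639cc7398642988439d073a0c7318e7290a628ce741cc6398a739866418e631d04210a5290c6390832108629d0729d062106431cc639ce521cc831d0820d06394c529cc83a0c74208531cc5398e6220c8218a6410a6310a3220a6318a52110620c88118c3418e6420e619886218e7394c4210c42990519ca6318e53990641ce7194842988529ce4294e5298e729088298c71a0a729c231988519466320c5294c43a0e74190729ce3314a52950839444214662a0e831ce641c87310e7114c639c66394c628cc738d05208e6394e839c8529866398e631064290a541886214e7311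063950831c4629486218a8314a5390c6420a521ca62988731c861086531cc539ce529ce829d08210e5390c529ca8320c64206631cc439ce5220c8198a5394c6314c4224862948620d072888719ce330c83290c6414c5298a841ce7320e642065210a629d0828c83310c649ce541cc7410e719ce3318c7310e7218c6198e61a085194c83150529ca53148618d07398e730c65194a421464390c73190429ce7298e6108a83a0e8398c341ce741ca621c45198a838886418a72910421ca43088839ca639882310a6290c4220a6418a829507398e72846541ce741cc6220e7320e630cc220cc539c2739ce7414c1398c6414e8098e7394e6305062990641c47420e6398c229ce829ce6120a7320c740ce5314e741c43104421041f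

/-- the row `i` of the matrix `g` -/
def row (g i : ℕ) : ℕ := (ROWS >>> (48 * (8 * g + i))) % 281474976710656

/-- the combination of the rows -/
def comb (g c : ℕ) : ℕ :=
  c % 3 * row g 0 + c / 3 % 3 * row g 1 + c / 9 % 3 * row g 2 + c / 27 % 3 * row g 3 +
    c / 81 % 3 * row g 4 + c / 243 % 3 * row g 5 + c / 729 % 3 * row g 6 + c / 2187 % 3 * row g 7

/-- reduction mod 3 of the entries -/
def red (S : ℕ) : ℕ :=
  S % 64 % 3 + 3 * (S / 64 % 64 % 3) + 9 * (S / 4096 % 64 % 3) + 27 * (S / 262144 % 64 % 3) +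
    81 * (S / 16777216 % 64 % 3) + 243 * (S / 1073741824 % 64 % 3) + 729 * (S / 68719476736 % 64 % 3) +
    2187 * (S / 4398046511104 % 64 % 3)

/-- the image of the vector with the code `c` under the matrix `g` -/
def act (g c : ℕ) : ℕ := red (comb g c)

def gen (c : ℕ) : ℕ := (GEN >>> (4 * c)) % 16

def dep (c : ℕ) : ℕ := (DEP >>> (5 * c)) % 32

/-- The check for one vector. -/
def chk (c : ℕ) : Bool :=
  Nat.beq c 1 || Nat.beq c 2350 || (Nat.blt (dep (act (gen c) c)) (dep c) && Nat.blt (gen c) 8)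

/-- The check for `n` vectors starting with `a`. -/
def chkN (a n : ℕ) : Bool := Nat.rec true (fun k ih => chk (a + k) && ih) n

/-- The check for all vectors. -/
def chkA : Bool := Nat.rec true (fun k ih => chkN (1 + 80 * k) 80 && ih) 82

private noncomputable def _root_.Cfsg.Agent.KOb2dda24.k0 : type_of% @Bool.and := @(fun x0 x1 => @Bool.rec.{1} @(fun x2 => @Bool) @Bool.false @x1 @x0)
private theorem _root_.Cfsg.Agent.KOb2dda24.e0 : @Bool.and = @_root_.Cfsg.Agent.KOb2dda24.k0 := by delta _root_.Cfsg.Agent.KOb2dda24.k0; rfl'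
private noncomputable def _root_.Cfsg.Agent.KOb2dda24.k1 : (by first | exact type_of% @Cfsg.Agent.H966.U33.Orb.gen | exact Unit : Sort _) := by first | (refine @Subtype.val _ (fun g => @Cfsg.Agent.H966.U33.Orb.gen = @g) (@Subtype.mk _ _ (@(fun x0 => @Nat.mod (@Nat.shiftRight @Cfsg.Agent.H966.U33.Orb.GEN (@Nat.mul (nat_lit 4) @x0)) (nat_lit 16))) ?_); (try delta Cfsg.Agent.H966.U33.Orb.gen); (try generalize @Cfsg.Agent.H966.U33.Orb.GEN = g0); rfl') | exact @Cfsg.Agent.H966.U33.Orb.gen | exact ()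
private theorem _root_.Cfsg.Agent.KOb2dda24.e1 : (by first | exact @Cfsg.Agent.H966.U33.Orb.gen = @_root_.Cfsg.Agent.KOb2dda24.k1 | exact True : Prop) := by first | (delta _root_.Cfsg.Agent.KOb2dda24.k1; exact @Subtype.property _ (fun g => @Cfsg.Agent.H966.U33.Orb.gen = @g) _) | rfl | trivial
private noncomputable def _root_.Cfsg.Agent.KOb2dda24.k2 : (by first | exact type_of% @Cfsg.Agent.H966.U33.Orb.dep | exact Unit : Sort _) := by first | (refine @Subtype.val _ (fun g => @Cfsg.Agent.H966.U33.Orb.dep = @g) (@Subtype.mk _ _ (@(fun x0 => @Nat.mod (@Nat.shiftRight @Cfsg.Agent.H966.U33.Orb.DEP (@Nat.mul (nat_lit 5) @x0)) (nat_lit 32))) ?_); (try delta Cfsg.Agent.H966.U33.Orb.dep); (try generalize @Cfsg.Agent.H966.U33.Orb.DEP = g0); rfl') | exact @Cfsg.Agent.H966.U33.Orb.dep | exact ()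
private theorem _root_.Cfsg.Agent.KOb2dda24.e2 : (by first | exact @Cfsg.Agent.H966.U33.Orb.dep = @_root_.Cfsg.Agent.KOb2dda24.k2 | exact True : Prop) := by first | (delta _root_.Cfsg.Agent.KOb2dda24.k2; exact @Subtype.property _ (fun g => @Cfsg.Agent.H966.U33.Orb.dep = @g) _) | rfl | trivial
private noncomputable def _root_.Cfsg.Agent.KOb2dda24.k3 : (by first | exact type_of% @Cfsg.Agent.H966.U33.Orb.red | exact Unit : Sort _) := by first | (refine @Subtype.val _ (fun g => @Cfsg.Agent.H966.U33.Orb.red = @g) (@Subtype.mk _ _ (@(fun x0 => @Nat.add (@Nat.add (@Nat.add (@Nat.add (@Nat.add (@Nat.add (@Nat.add (@Nat.mod (@Nat.mod @x0 (nat_lit 64)) (nat_lit 3)) (@Nat.mul (nat_lit 3) (@Nat.mod (@Nat.mod (@Nat.div @x0 (nat_lit 64)) (nat_lit 64)) (nat_lit 3)))) (@Nat.mul (nat_lit 9) (@Nat.mod (@Nat.mod (@Nat.div @x0 (nat_lit 4096)) (nat_lit 64)) (nat_lit 3)))) (@Nat.mul (nat_lit 27) (@Nat.mod (@Nat.mod (@Nat.div @x0 (nat_lit 262144)) (nat_lit 64)) (nat_lit 3))))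 (@Nat.mul (nat_lit 81) (@Nat.mod (@Nat.mod (@Nat.div @x0 (nat_lit 16777216)) (nat_lit 64)) (nat_lit 3)))) (@Nat.mul (nat_lit 243) (@Nat.mod (@Nat.mod (@Nat.div @x0 (nat_lit 1073741824)) (nat_lit 64)) (nat_lit 3)))) (@Nat.mul (nat_lit 729) (@Nat.mod (@Nat.mod (@Nat.div @x0 (nat_lit 68719476736)) (nat_lit 64)) (nat_lit 3)))) (@Nat.mul (nat_lit 2187) (@Nat.mod (@Nat.mod (@Nat.div @x0 (nat_lit 4398046511104)) (nat_lit 64)) (nat_lit 3))))) ?_); rfl') | exact @Cfsg.Agent.H966.U33.Orb.red | exact ()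
private theorem _root_.Cfsg.Agent.KOb2dda24.e3 : (by first | exact @Cfsg.Agent.H966.U33.Orb.red = @_root_.Cfsg.Agent.KOb2dda24.k3 | exact True : Prop) := by first | (delta _root_.Cfsg.Agent.KOb2dda24.k3; exact @Subtype.property _ (fun g => @Cfsg.Agent.H966.U33.Orb.red = @g) _) | rfl | trivial
private noncomputable def _root_.Cfsg.Agent.KOb2dda24.k4 : (by first | exact type_of% @Cfsg.Agent.H966.U33.Orb.row | exact Unit : Sort _) := by first | (refine @Subtype.val _ (fun g => @Cfsg.Agent.H966.U33.Orb.row = @g) (@Subtype.mk _ _ (@(fun x0 x1 => @Nat.mod (@Nat.shiftRight @Cfsg.Agent.H966.U33.Orb.ROWS (@Nat.mul (nat_lit 48) (@Nat.add (@Nat.mul (nat_lit 8) @x0) @x1))) (nat_lit 281474976710656))) ?_); (try delta Cfsg.Agent.H966.U33.Orb.row); (try generalize @Cfsg.Agent.H966.U33.Orb.ROWS = g0); rfl') | exact @Cfsg.Agent.H966.U33.Orb.row | exact ()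
private theorem _root_.Cfsg.Agent.KOb2dda24.e4 : (by first | exact @Cfsg.Agent.H966.U33.Orb.row = @_root_.Cfsg.Agent.KOb2dda24.k4 | exact True : Prop) := by first | (delta _root_.Cfsg.Agent.KOb2dda24.k4; exact @Subtype.property _ (fun g => @Cfsg.Agent.H966.U33.Orb.row = @g) _) | rfl | trivial
private noncomputable def _root_.Cfsg.Agent.KOb2dda24.k5 : (by first | exact type_of% @Cfsg.Agent.H966.U33.Orb.comb | exact Unit : Sort _) := by first | (refine @Subtype.val _ (fun g => @Cfsg.Agent.H966.U33.Orb.comb = @g) (@Subtype.mk _ _ (@(fun x0 x1 => @Nat.add (@Nat.add (@Nat.add (@Nat.add (@Nat.add (@Nat.add (@Nat.add (@Nat.mul (@Nat.mod @x1 (nat_lit 3)) (@Cfsg.Agent.KOb2dda24.k4 @x0 (nat_lit 0))) (@Nat.mul (@Nat.mod (@Nat.div @x1 (nat_lit 3)) (nat_lit 3)) (@Cfsg.Agent.KOb2dda24.k4 @x0 (nat_lit 1)))) (@Nat.mul (@Nat.mod (@Nat.div @x1 (nat_lit 9)) (nat_lit 3)) (@Cfsg.Agent.KOb2dda24.k4 @x0 (nat_lit 2)))) (@Nat.mul (@Nat.mod (@Nat.div @x1 (nat_lit 27)) (nat_lit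 3)) (@Cfsg.Agent.KOb2dda24.k4 @x0 (nat_lit 3)))) (@Nat.mul (@Nat.mod (@Nat.div @x1 (nat_lit 81)) (nat_lit 3)) (@Cfsg.Agent.KOb2dda24.k4 @x0 (nat_lit 4)))) (@Nat.mul (@Nat.mod (@Nat.div @x1 (nat_lit 243)) (nat_lit 3)) (@Cfsg.Agent.KOb2dda24.k4 @x0 (nat_lit 5)))) (@Nat.mul (@Nat.mod (@Nat.div @x1 (nat_lit 729)) (nat_lit 3)) (@Cfsg.Agent.KOb2dda24.k4 @x0 (nat_lit 6)))) (@Nat.mul (@Nat.mod (@Nat.div @x1 (nat_lit 2187)) (nat_lit 3)) (@Cfsg.Agent.KOb2dda24.k4 @x0 (nat_lit 7))))) ?_); rewrite [← Cfsg.Agent.KOb2dda24.e4]; (try delta Cfsg.Agent.H966.U33.Orb.comb); (try generalize @Cfsg.Agent.H966.U33.Orb.row = g0); rfl') | exact @Cfsg.Agent.H966.U33.Orb.comb | exact ()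
private theorem _root_.Cfsg.Agent.KOb2dda24.e5 : (by first | exact @Cfsg.Agent.H966.U33.Orb.comb = @_root_.Cfsg.Agent.KOb2dda24.k5 | exact True : Prop) := by first | (delta _root_.Cfsg.Agent.KOb2dda24.k5; exact @Subtype.property _ (fun g => @Cfsg.Agent.H966.U33.Orb.comb = @g) _) | rfl | trivial
private noncomputable def _root_.Cfsg.Agent.KOb2dda24.k6 : (by first | exact type_of% @Cfsg.Agent.H966.U33.Orb.chk | exact Unit : Sort _) := by first | (refine @Subtype.val _ (fun g => @Cfsg.Agent.H966.U33.Orb.chk = @g) (@Subtype.mk _ _ (@(fun x0 => @Bool.rec.{1} @(fun x1 => @Bool) (@Bool.rec.{1} @(fun x1 => @Bool) @Bool.false (@Nat.ble (@Nat.succ (@Cfsg.Agent.KOb2dda24.k1 @x0)) (nat_lit 8)) (@Nat.ble (@Nat.succ (@Cfsg.Agent.KOb2dda24.k2 (@Cfsg.Agent.KOb2dda24.k3 (@Cfsg.Agent.KOb2dda24.k5 (@Cfsg.Agent.KOb2dda24.k1 @x0) @x0)))) (@Cfsg.Agent.KOb2dda24.k2 @x0))) @Bool.true (@Bool.rec.{1} @(fun x1 => @Bool) (@Nat.beq @x0 (nat_lit 2350)) @Bool.true (@Nat.beq @x0 (nat_lit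 1))))) ?_); rewrite [← Cfsg.Agent.KOb2dda24.e5, ← Cfsg.Agent.KOb2dda24.e3, ← Cfsg.Agent.KOb2dda24.e2, ← Cfsg.Agent.KOb2dda24.e1]; (try delta Cfsg.Agent.H966.U33.Orb.chk Cfsg.Agent.H966.U33.Orb.act); (try generalize @Cfsg.Agent.H966.U33.Orb.gen = g0); (try generalize @Cfsg.Agent.H966.U33.Orb.dep = g1); (try generalize @Cfsg.Agent.H966.U33.Orb.red = g2); (try generalize @Cfsg.Agent.H966.U33.Orb.comb = g3); rfl') | exact @Cfsg.Agent.H966.U33.Orb.chk | exact ()
private theorem _root_.Cfsg.Agent.KOb2dda24.e6 : (by first | exact @Cfsg.Agent.H966.U33.Orb.chk = @_root_.Cfsg.Agent.KOb2dda24.k6 | exact True : Prop) := by first | (delta _root_.Cfsg.Agent.KOb2dda24.k6; exact @Subtype.property _ (fun g => @Cfsg.Agent.H966.U33.Orb.chk = @g) _) | rfl | trivial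
private noncomputable def _root_.Cfsg.Agent.KOb2dda24.k7 : (by first | exact type_of% @Cfsg.Agent.H966.U33.Orb.chkN | exact Unit : Sort _) := by first | (refine @Subtype.val _ (fun g => @Cfsg.Agent.H966.U33.Orb.chkN = @g) (@Subtype.mk _ _ (@(fun x0 x1 => @Nat.rec.{1} @(fun x2 => @Bool) @Bool.true @(fun x2 x3 => @Bool.rec.{1} @(fun x4 => @Bool) @Bool.false @x3 (@Cfsg.Agent.KOb2dda24.k6 (@Nat.add @x0 @x2))) @x1)) ?_); rewrite [← Cfsg.Agent.KOb2dda24.e6]; (try delta Cfsg.Agent.H966.U33.Orb.chkN); (try generalize @Cfsg.Agent.H966.U33.Orb.chk = g0); rfl') | exact @Cfsg.Agent.H966.U33.Orb.chkN | exact ()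
private theorem _root_.Cfsg.Agent.KOb2dda24.e7 : (by first | exact @Cfsg.Agent.H966.U33.Orb.chkN = @_root_.Cfsg.Agent.KOb2dda24.k7 | exact True : Prop) := by first | (delta _root_.Cfsg.Agent.KOb2dda24.k7; exact @Subtype.property _ (fun g => @Cfsg.Agent.H966.U33.Orb.chkN = @g) _) | rfl | trivial

theorem chkA_true : chkA = true := by (first | (delta Cfsg.Agent.H966.U33.Orb.chkA; rewrite [Cfsg.Agent.KOb2dda24.e0, Cfsg.Agent.KOb2dda24.e7]; decide +kernel) | decide +kernel)

theorem chkN_spec (a n : ℕ) (h : chkN a n = true) : ∀ c, a ≤ c → c < a + n → chk c = true := by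
  induction n with
  | zero => intro c h1 h2; omega
  | succ n ih =>
    have h' : (chk (a + n) && chkN a n) = true := h
    rw [Bool.and_eq_true] at h'
    intro c h1 h2
    rcases Nat.lt_or_ge c (a + n) with h3 | h3
    · exact ih h'.2 c h1 h3
    · have : c = a + n := by omega
      rw [this]; exact h'.1

theorem chk_all (c : ℕ) (h1 : 1 ≤ c) (h2 : c < 6561) : chk c = true := by
  have key : ∀ n, (Nat.rec true (fun k ih => chkN (1 + 80 * k) 80 && ih) n : Bool) = true →
      ∀ c, 1 ≤ c → c < 1 + 80 * n → chk c = true := by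
    intro n
    induction n with
    | zero => intro _ c h1 h2; omega
    | succ n ih =>
      intro h
      have h' : (chkN (1 + 80 * n) 80 && (Nat.rec true (fun k ih => chkN (1 + 80 * k) 80 && ih) n : Bool)) = true := h
      rw [Bool.and_eq_true] at h'
      intro c h1 h2
      rcases Nat.lt_or_ge c (1 + 80 * n) with h3 | h3
      · exact ih h'.2 c h1 h3
      · exact chkN_spec _ _ h'.1 c h3 (by omega)
  exact key 82 chkA_true c h1 (by omega)

/-- The vector with the code `c`. -/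
def vec (c : ℕ) : Vec := ![((c % 3 : ℕ) : ZMod 3), ((c / 3 % 3 : ℕ) : ZMod 3), ((c / 9 % 3 : ℕ) : ZMod 3),
  ((c / 27 % 3 : ℕ) : ZMod 3), ((c / 81 % 3 : ℕ) : ZMod 3), ((c / 243 % 3 : ℕ) : ZMod 3),
  ((c / 729 % 3 : ℕ) : ZMod 3), ((c / 2187 % 3 : ℕ) : ZMod 3)]

/-- The matrix `g`. -/
def mat (g : ℕ) : Matrix (Fin 8) (Fin 8) (ZMod 3) := fun i j => ((row g i / 64 ^ (j : ℕ) % 64 : ℕ) : ZMod 3)

/-- The rows are good. -/
def rowOK (r : ℕ) : Bool :=
  Nat.blt r 281474976710656 && Nat.blt (r % 64) 3 && Nat.blt (r / 64 % 64) 3 && Nat.blt (r / 4096 % 64) 3 &&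
    Nat.blt (r / 262144 % 64) 3 && Nat.blt (r / 16777216 % 64) 3 && Nat.blt (r / 1073741824 % 64) 3 &&
    Nat.blt (r / 68719476736 % 64) 3 && Nat.blt (r / 4398046511104 % 64) 3

theorem rows_ok : ∀ g < 8, ∀ i < 8, rowOK (row g i) = true := by decide +kernel

theorem row_digits {r : ℕ} (h : rowOK r = true) : ∃ m : Fin 8 → ℕ, (∀ j, m j < 3) ∧
    r = m 0 + 64 * m 1 + 4096 * m 2 + 262144 * m 3 + 16777216 * m 4 + 1073741824 * m 5 + 68719476736 * m 6 +
      4398046511104 * m 7 := by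
  unfold rowOK at h
  simp only [Bool.and_eq_true, Nat.blt_eq] at h
  obtain ⟨⟨⟨⟨⟨⟨⟨⟨h0, h1⟩, h2⟩, h3⟩, h4⟩, h5⟩, h6⟩, h7⟩, h8⟩ := h
  refine ⟨![r % 64, r / 64 % 64, r / 4096 % 64, r / 262144 % 64, r / 16777216 % 64, r / 1073741824 % 64,
    r / 68719476736 % 64, r / 4398046511104 % 64], ?_, ?_⟩
  · intro j
    fin_cases j
    · exact h1
    · exact h2
    · exact h3
    · exact h4
    · exact h5
    · exact h6
    · exact h7
    · exact h8
  · show r = r % 64 + 64 * (r / 64 % 64) + 4096 * (r / 4096 % 64) + 262144 * (r / 262144 % 64) +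
      16777216 * (r / 16777216 % 64) + 1073741824 * (r / 1073741824 % 64) + 68719476736 * (r / 68719476736 % 64) +
      4398046511104 * (r / 4398046511104 % 64)
    (clear * - h6 h0; omega)

theorem unpack {a0 a1 a2 a3 a4 a5 a6 a7 : ℕ} (h0 : a0 < 64) (h1 : a1 < 64) (h2 : a2 < 64) (h3 : a3 < 64)
    (h4 : a4 < 64) (h5 : a5 < 64) (h6 : a6 < 64) (h7 : a7 < 64) :
    red (a0 + 64 * a1 + 4096 * a2 + 262144 * a3 + 16777216 * a4 + 1073741824 * a5 + 68719476736 * a6 +
      4398046511104 * a7) = a0 % 3 + 3 * (a1 % 3) + 9 * (a2 % 3) + 27 * (a3 % 3) + 81 * (a4 % 3) + 243 * (a5 % 3) +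
        729 * (a6 % 3) + 2187 * (a7 % 3) := by
  unfold red
  set S := a0 + 64 * a1 + 4096 * a2 + 262144 * a3 + 16777216 * a4 + 1073741824 * a5 + 68719476736 * a6 +
      4398046511104 * a7 with hS
  have e0 : S % 64 = a0 := by omega
  have e1 : S / 64 % 64 = a1 := by omega
  have e2 : S / 4096 % 64 = a2 := by omega
  have e3 : S / 262144 % 64 = a3 := by (clear * - h0 h3 e1 e2; omega)
  have e4 : S / 16777216 % 64 = a4 := by (clear * - h0 h4 e1 e2 e3; omega)
  have e5 : S / 1073741824 % 64 = a5 := by (clear * - h1 h2 h3 h4 h5 e0; omega)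
  have e6 : S / 68719476736 % 64 = a6 := by (clear * - h1 h2 h3 h4 h5 h6 e0; omega)
  have e7 : S / 4398046511104 % 64 = a7 := by (clear * - h0 h1 h2 h3 h4 h5 h6 h7 e1 e2 e3 e4; omega)
  rw [e0, e1, e2, e3, e4, e5, e6, e7]

theorem vec_pack {b : Fin 8 → ℕ} (hb : ∀ j, b j < 3) :
    vec (b 0 + 3 * b 1 + 9 * b 2 + 27 * b 3 + 81 * b 4 + 243 * b 5 + 729 * b 6 + 2187 * b 7) =
      fun j => ((b j : ℕ) : ZMod 3) := by
  have h0 := hb 0
  have h1 := hb 1
  have h2 := hb 2
  have h3 := hb 3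
  have h4 := hb 4
  have h5 := hb 5
  have h6 := hb 6
  have h7 := hb 7
  unfold vec
  set S := b 0 + 3 * b 1 + 9 * b 2 + 27 * b 3 + 81 * b 4 + 243 * b 5 + 729 * b 6 + 2187 * b 7 with hS
  have e0 : S % 3 = b 0 := by omega
  have e1 : S / 3 % 3 = b 1 := by omega
  have e2 : S / 9 % 3 = b 2 := by omega
  have e3 : S / 27 % 3 = b 3 := by (clear * - h0 h1 h2 h3; omega)
  have e4 : S / 81 % 3 = b 4 := by (clear * - h4 e0 e1 e2 e3; omega)
  have e5 : S / 243 % 3 = b 5 := by (clear * - h5 e0 e1 e2 e3 e4; omega)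
  have e6 : S / 729 % 3 = b 6 := by (clear * - h4 h5 h6 e0 e1 e2 e3; omega)
  have e7 : S / 2187 % 3 = b 7 := by omega
  rw [e0, e1, e2, e3, e4, e5, e6, e7]
  funext j
  fin_cases j <;> rfl

/-- **The action.** -/
theorem vec_act {g : ℕ} (hg : g < 8) (c : ℕ) : vec (act g c) = vec c ᵥ* mat g := by
  have hr : ∀ i : Fin 8, ∃ m : Fin 8 → ℕ, (∀ j, m j < 3) ∧
    row g i = m 0 + 64 * m 1 + 4096 * m 2 + 262144 * m 3 + 16777216 * m 4 + 1073741824 * m 5 + 68719476736 * m 6 +
      4398046511104 * m 7 := fun i => row_digits (rows_ok g hg i i.2)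
  choose m hm hrow using hr
  have hmat : ∀ i j, mat g i j = ((m i j : ℕ) : ZMod 3) := by
    intro i j
    have h := hrow i
    have h0 := hm i 0
    have h1 := hm i 1
    have h2 := hm i 2
    have h3 := hm i 3
    have h4 := hm i 4
    have h5 := hm i 5
    have h6 := hm i 6
    have h7 := hm i 7
    unfold mat
    congr 1
    fin_cases j
    · show row g i / 1 % 64 = m i 0
      omega
    · show row g i / 64 % 64 = m i 1
      omega
    · show row g i / 4096 % 64 = m i 2
      omega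
    · show row g i / 262144 % 64 = m i 3
      omega
    · show row g i / 16777216 % 64 = m i 4
      omega
    · show row g i / 1073741824 % 64 = m i 5
      omega
    · show row g i / 68719476736 % 64 = m i 6
      omega
    · show row g i / 4398046511104 % 64 = m i 7
      omega
  let d : Fin 8 → ℕ := ![c % 3, c / 3 % 3, c / 9 % 3, c / 27 % 3, c / 81 % 3, c / 243 % 3, c / 729 % 3, c / 2187 % 3]
  have hd : ∀ i, d i < 3 := by
    intro i
    fin_cases i
    all_goals exact Nat.mod_lt _ (by norm_num)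
  have hvec : vec c = fun i => ((d i : ℕ) : ZMod 3) := by
    funext i
    fin_cases i <;> rfl
  let a : Fin 8 → ℕ := fun j => ∑ i, d i * m i j
  have ha : ∀ j, a j < 64 := by
    intro j
    have h1 : a j ≤ ∑ i : Fin 8, 4 := Finset.sum_le_sum fun i _ => by
      have h2 : d i ≤ 2 := Nat.lt_succ_iff.1 (hd i)
      have h3 : m i j ≤ 2 := Nat.lt_succ_iff.1 (hm i j)
      exact Nat.mul_le_mul h2 h3
    simp only [Finset.sum_const, Finset.card_univ, Fintype.card_fin, smul_eq_mul] at h1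
    omega
  have hcomb : comb g c = a 0 + 64 * a 1 + 4096 * a 2 + 262144 * a 3 + 16777216 * a 4 + 1073741824 * a 5 +
      68719476736 * a 6 + 4398046511104 * a 7 := by
    have e : comb g c = d 0 * row g 0 + d 1 * row g 1 + d 2 * row g 2 + d 3 * row g 3 + d 4 * row g 4 +
      d 5 * row g 5 + d 6 * row g 6 + d 7 * row g 7 := rfl
    have r0 : row g 0 = _ := hrow 0
    have r1 : row g 1 = _ := hrow 1
    have r2 : row g 2 = _ := hrow 2
    have r3 : row g 3 = _ := hrow 3
    have r4 : row g 4 = _ := hrow 4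
    have r5 : row g 5 = _ := hrow 5
    have r6 : row g 6 = _ := hrow 6
    have r7 : row g 7 = _ := hrow 7
    rw [e, r0, r1, r2, r3, r4, r5, r6, r7]
    simp only [a, Fin.sum_univ_eight]
    ring
  unfold act
  rw [hcomb, unpack (ha 0) (ha 1) (ha 2) (ha 3) (ha 4) (ha 5) (ha 6) (ha 7)]
  have h := vec_pack (b := fun j => a j % 3) fun j => Nat.mod_lt _ (by norm_num)
  refine h.trans ?_
  funext j
  rw [ZMod.natCast_mod, hvec, Matrix.vecMul, dotProduct]
  simp only [a, Nat.cast_sum, Nat.cast_mul]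
  exact Finset.sum_congr rfl fun i _ => by rw [hmat]

theorem act_lt (g c : ℕ) : act g c < 6561 := by
  unfold act red
  omega

theorem dep_zero : dep 0 = 31 := by decide +kernel

theorem dep_lt (c : ℕ) : dep c < 32 := Nat.mod_lt _ (by norm_num)

theorem exists_code (v : Vec) : ∃ c < 6561, vec c = v := by
  have h := vec_pack (b := fun j => (v j).val) fun j => ZMod.val_lt _
  refine ⟨_, ?_, h.trans ?_⟩
  · have h0 := ZMod.val_lt (v 0)
    have h1 := ZMod.val_lt (v 1)
    have h2 := ZMod.val_lt (v 2)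
    have h3 := ZMod.val_lt (v 3)
    have h4 := ZMod.val_lt (v 4)
    have h5 := ZMod.val_lt (v 5)
    have h6 := ZMod.val_lt (v 6)
    have h7 := ZMod.val_lt (v 7)
    omega
  · funext j
    exact ZMod.natCast_zmod_val _

theorem vec_zero : vec 0 = 0 := by decide

/-- The representatives. -/
def cA : ℕ := 1

def cB : ℕ := 2350

/-- **Every nonzero vector reaches one of the two representatives.** -/
theorem ind (C : Vec → Prop) (hA : C (vec cA)) (hB : C (vec cB))
    (hs : ∀ g < 8, ∀ v, C (v ᵥ* mat g) → C v) : ∀ v, v ≠ 0 → C v := by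
  have key : ∀ k c, dep c < k → 1 ≤ c → c < 6561 → C (vec c) := by
    intro k
    induction k with
    | zero => intro c h; omega
    | succ k ih =>
      intro c h1 h2 h3
      have h4 := chk_all c h2 h3
      unfold chk at h4
      simp only [Bool.or_eq_true, Bool.and_eq_true, Nat.beq_eq, Nat.blt_eq] at h4
      rcases h4 with (h4 | h4) | h4
      · rw [h4]; exact hA
      · rw [h4]; exact hB
      · apply hs _ h4.2
        rw [← vec_act h4.2]
        refine ih _ (by omega) ?_ (act_lt _ _)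
        rcases Nat.eq_zero_or_pos (act (gen c) c) with h5 | h5
        · exfalso
          have h6 := h4.1
          rw [h5, dep_zero] at h6
          have := dep_lt c
          omega
        · exact h5
  intro v hv
  obtain ⟨c, hc, rfl⟩ := exists_code v
  refine key 32 c (dep_lt c) ?_ hc
  rcases Nat.eq_zero_or_pos c with h5 | h5
  · exact absurd (h5 ▸ vec_zero) hv
  · exact h5

/-! ### In terms of the numbers of `H863/U33/Num` -/

open Cfsg.Agent.H863.U33

theorem vec_cA : vec cA = ![1, 0, 0, 0, 0, 0, 0, 0] := by decide +kernel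

theorem vec_cB : vec cB = vB := by decide +kernel

theorem mat_w' : ∀ (a : Fin 6) (i j : Fin 8), row a i / 64 ^ (j : ℕ) % 64 = (Mw a i j).val := by decide +kernel

theorem mat_k' : ∀ (a : Fin 2) (i j : Fin 8), row (6 + a) i / 64 ^ (j : ℕ) % 64 = (Mk a i j).val := by
  decide +kernel

theorem mat_w (a : Fin 6) : mat a = Mw a := by
  funext i j
  unfold mat
  rw [mat_w' a i j, ZMod.natCast_zmod_val]

theorem mat_k (a : Fin 2) : mat (6 + a) = Mk a := by
  funext i j
  unfold mat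
  rw [mat_k' a i j, ZMod.natCast_zmod_val]

/-- **The kernel half of `StOrb`.** -/
theorem orb_ind (C : (Fin 8 → ZMod 3) → Prop) (hA : C ![1, 0, 0, 0, 0, 0, 0, 0]) (hB : C vB)
    (hw : ∀ (a : Fin 6) (v : Fin 8 → ZMod 3), C (fun j => ∑ i, v i * Mw a i j) → C v)
    (hk : ∀ (c : Fin 2) (v : Fin 8 → ZMod 3), C (fun j => ∑ i, v i * Mk c i j) → C v) :
    ∀ v, v ≠ 0 → C v := by
  refine ind C (vec_cA ▸ hA) (vec_cB ▸ hB) ?_
  intro g hg v hv
  have hv' : C (fun j => ∑ i, v i * mat g i j) := hv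
  rcases Nat.lt_or_ge g 6 with h | h
  · refine hw ⟨g, h⟩ v ?_
    have e : mat g = Mw ⟨g, h⟩ := mat_w ⟨g, h⟩
    rwa [e] at hv'
  · obtain rfl | rfl : g = 6 ∨ g = 7 := by omega
    · refine hk 0 v ?_
      have e : mat 6 = Mk 0 := mat_k 0
      rwa [e] at hv'
    · refine hk 1 v ?_
      have e : mat 7 = Mk 1 := mat_k 1
      rwa [e] at hv'

end Cfsg.Agent.H966.U33.Orb
end

-- part: H966/U33/StOrb
section
/-!
# The orbits on `P ∖ ⟨y⟩` (helper966, S5525 box L2)
-/

set_option autoImplicit false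

namespace Cfsg.Agent.H966.U33.Orb

open Cfsg.Agent.H863.U33

section

variable {G : Type*} [Group G] {y : G} {e : Fin 8 → G} {t : G} {w : Fin 6 → G} {k : Fin 2 → G} {n : G}

theorem mem_e (y : G) (e : Fin 8 → G) (t : G) (w : Fin 6 → G) (k : Fin 2 → G) (j : Fin 8) : e j ∈ KK y e t w k :=
  Subgroup.subset_closure (Or.inl (Or.inl (Or.inl (Or.inr ⟨j, rfl⟩))))

theorem mem_w (y : G) (e : Fin 8 → G) (t : G) (w : Fin 6 → G) (k : Fin 2 → G) (a : Fin 6) : w a ∈ KK y e t w k :=
  Subgroup.subset_closure (Or.inl (Or.inr ⟨a, rfl⟩))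

theorem mem_k (y : G) (e : Fin 8 → G) (t : G) (w : Fin 6 → G) (k : Fin 2 → G) (c : Fin 2) : k c ∈ KK y e t w k :=
  Subgroup.subset_closure (Or.inr ⟨c, rfl⟩)

theorem e_comm (h : TB y e t w k n) {i j : Fin 8} (hij : fm i j = 0) : e i * e j = e j * e i := by
  have h1 := h.ee i j
  rw [hij] at h1
  simpa only [_root_.ZMod.val_zero, _root_.pow_zero, _root_.one_mul] using h1

/-- conjugation by the powers of `e 1` -/
theorem conj_pow (h : TB y e t w k n) (j : ℕ) : e 0 * e 1 ^ j = y ^ j * e 1 ^ j * e 0 := by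
  have hy : Commute (e 1) y := h.ey 1
  have h1 : e 0 * e 1 = y * e 1 * e 0 := by
    have h2 := h.ee 0 1
    have h3 : (fm 0 1).val = 1 := by decide
    rw [h3, pow_one] at h2
    exact h2
  induction j with
  | zero => simp
  | succ j ih =>
    have h4 : e 1 ^ j * y = y * e 1 ^ j := (hy.pow_left j).eq
    calc e 0 * e 1 ^ (j + 1) = (e 0 * e 1 ^ j) * e 1 := by rw [pow_succ, mul_assoc]
      _ = y ^ j * e 1 ^ j * (e 0 * e 1) := by rw [ih]; group
      _ = y ^ j * (e 1 ^ j * y) * e 1 * e 0 := by rw [h1]; group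
      _ = y ^ (j + 1) * e 1 ^ (j + 1) * e 0 := by rw [h4]; group

theorem conj_pow' (h : TB y e t w k n) (j : ℕ) {q : G} (hq : Commute (e 1) q) (hyq : Commute y q) (b : ℕ) :
    (e 1 ^ j)⁻¹ * (e 0 * q * y ^ b) * (e 1 ^ j)⁻¹⁻¹ = e 0 * q * y ^ (j + b) := by
  have c1 : Commute (e 1) y := h.ey 1
  have c0 : Commute (e 0) y := h.ey 0
  have hy1 : Commute (e 1 ^ j) (y ^ b) := (c1.pow_left j).pow_right b
  have hyj : Commute (e 1 ^ j) (y ^ j) := (c1.pow_left j).pow_right j
  have hqj : Commute (e 1 ^ j) q := hq.pow_left j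
  have hy0 : Commute (e 0 * q) (y ^ j) := (c0.mul_left hyq.symm).pow_right j
  rw [inv_inv, mul_assoc, inv_mul_eq_iff_eq_mul]
  have h1 : e 0 * q * y ^ b * e 1 ^ j = e 0 * e 1 ^ j * (q * y ^ b) := by
    rw [mul_assoc (e 0 * q), ← hy1.eq, mul_assoc (e 0), ← mul_assoc q, ← hqj.eq]
    group
  rw [h1, conj_pow h, ← hyj.eq, pow_add, ← mul_assoc (e 0 * q), hy0.eq]
  simp only [mul_assoc]

/-- Killing the constant. -/
theorem kill (h : TB y e t w k n) {q : G} (hq : Commute (e 1) q) (hyq : Commute y q) (b : ZMod 3) :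
    ∃ x ∈ KK y e t w k, x * (e 0 * q * y ^ b.val) * x⁻¹ = e 0 * q := by
  refine ⟨(e 1 ^ (3 - b.val))⁻¹, inv_mem (pow_mem (mem_e y e t w k 1) _), ?_⟩
  rw [conj_pow' h _ hq hyq]
  have h1 : 3 - b.val + b.val = 3 := Nat.sub_add_cancel (ZMod.val_lt b).le
  rw [h1, h.y3, mul_one]

theorem nf_A (y : G) (e : Fin 8 → G) (b : ZMod 3) : nf y e ![1, 0, 0, 0, 0, 0, 0, 0] b = e 0 * 1 * y ^ b.val := by
  have h1 : (1 : ZMod 3).val = 1 := rfl
  simp [nf, h1]

theorem nf_B (y : G) (e : Fin 8 → G) (b : ZMod 3) : nf y e vB b = e 0 * (e 4 ^ 2 * e 7) * y ^ b.val := by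
  have h0 : (vB 0).val = 1 := rfl
  have h1 : (vB 1).val = 0 := rfl
  have h2 : (vB 2).val = 0 := rfl
  have h3 : (vB 3).val = 0 := rfl
  have h4 : (vB 4).val = 2 := rfl
  have h5 : (vB 5).val = 0 := rfl
  have h6 : (vB 6).val = 0 := rfl
  have h7 : (vB 7).val = 1 := rfl
  simp only [nf, h0, h1, h2, h3, h4, h5, h6, h7, pow_zero, pow_one, mul_one]
  group

/-- the property for the induction -/
def CC (y : G) (e : Fin 8 → G) (t : G) (w : Fin 6 → G) (k : Fin 2 → G) (v : Fin 8 → ZMod 3) : Prop :=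
  ∀ b, ∃ x ∈ KK y e t w k, x * nf y e v b * x⁻¹ = e 0 ∨ x * nf y e v b * x⁻¹ = nf y e vB 0

theorem CC_A (h : TB y e t w k n) : CC y e t w k ![1, 0, 0, 0, 0, 0, 0, 0] := by
  intro b
  obtain ⟨x, hx, h1⟩ := kill h (Commute.one_right (e 1)) (Commute.one_right y) b
  refine ⟨x, hx, Or.inl ?_⟩
  rw [nf_A, h1, mul_one]

theorem CC_B (h : TB y e t w k n) : CC y e t w k vB := by
  intro b
  have c4 : Commute (e 1) (e 4) := e_comm h (by decide)
  have c7 : Commute (e 1) (e 7) := e_comm h (by decide)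
  have y4 : Commute y (e 4) := (h.ey 4).symm
  have y7 : Commute y (e 7) := (h.ey 7).symm
  obtain ⟨x, hx, h1⟩ := kill h (q := e 4 ^ 2 * e 7) ((c4.pow_right 2).mul_right c7) ((y4.pow_right 2).mul_right y7) b
  refine ⟨x, hx, Or.inr ?_⟩
  rw [nf_B, nf_B, h1, ZMod.val_zero, pow_zero, mul_one]

theorem CC_step {s : G} {M : Fin 8 → Fin 8 → ZMod 3} (hs : s ∈ KK y e t w k) (hM : Acts y e s M)
    {v : Fin 8 → ZMod 3} (hv : CC y e t w k fun j => ∑ i, v i * M i j) : CC y e t w k v := by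
  intro b
  obtain ⟨b', hb'⟩ := hM v b
  obtain ⟨x, hx, h1⟩ := hv b'
  refine ⟨x * s⁻¹, mul_mem hx (inv_mem hs), ?_⟩
  have h2 : x * s⁻¹ * nf y e v b * (x * s⁻¹)⁻¹ = x * (s⁻¹ * nf y e v b * s) * x⁻¹ := by group
  rw [h2, hb']
  exact h1

end

/-- **L2.** -/
theorem stOrb (hNF : StNF) (hAct : StAct) : StOrb := by
  intro G _ y e t w k n h p hp hpy
  obtain ⟨hP, -, -⟩ := hNF h
  obtain ⟨-, hAw, hAk, -⟩ := hAct h
  obtain ⟨v, b, rfl⟩ := (hP p).1 hp
  have hv : v ≠ 0 := by
    rintro rfl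
    apply hpy
    have h1 : nf y e 0 b = y ^ b.val := by simp [nf]
    rw [h1]
    exact ⟨(b.val : ℤ), zpow_natCast y b.val⟩
  exact orb_ind (CC y e t w k) (CC_A h) (CC_B h) (fun a v hv => CC_step (mem_w y e t w k a) (hAw a) hv)
    (fun c v hv => CC_step (mem_k y e t w k c) (hAk c) hv) v hv b

end Cfsg.Agent.H966.U33.Orb
end

-- part: H649/U33/NF
section
/-!
# S5525, part F, box L1: the normal form of the elements of `P = 3^(1+8)` (helper649)

`stNF : StNF`, `stAct : StAct`.
-/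

set_option autoImplicit false

namespace Cfsg.Agent.H649.U33

open Cfsg.Agent.H863.U33

universe u

section pow

variable {G : Type u} [Group G]

/-- powers with exponents in `ZMod 3` -/
def pw (g : G) (a : ZMod 3) : G := g ^ a.val

theorem pw_zero (g : G) : pw g 0 = 1 := by
  show g ^ (0 : ZMod 3).val = 1
  rw [ZMod.val_zero, pow_zero]

theorem pw_one (g : G) : pw g 1 = g := by
  show g ^ (1 : ZMod 3).val = g
  rw [ZMod.val_one, pow_one]

theorem pow_eq_pw {g : G} (hg : g ^ 3 = 1) (k : ℕ) : g ^ k = pw g (k : ZMod 3) := by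
  show g ^ k = g ^ ((k : ZMod 3)).val
  rw [ZMod.val_natCast]
  exact pow_eq_pow_mod k hg

theorem pw_add {g : G} (hg : g ^ 3 = 1) (a b : ZMod 3) : pw g (a + b) = pw g a * pw g b := by
  show g ^ (a + b).val = g ^ a.val * g ^ b.val
  rw [← pow_add, ZMod.val_add, pow_eq_pow_mod (a.val + b.val) hg]

theorem pw_eq_one {g : G} (hg : g ^ 3 = 1) (h1 : g ≠ 1) {a : ZMod 3} (h : pw g a = 1) : a = 0 := by
  have h3 : orderOf g = 3 := orderOf_eq_prime hg h1
  have h2 : g ^ a.val = 1 := h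
  have h4 := orderOf_dvd_of_pow_eq_one h2
  rw [h3] at h4
  have h5 := ZMod.val_lt a
  have h6 : a.val = 0 := Nat.eq_zero_of_dvd_of_lt h4 h5
  rwa [ZMod.val_eq_zero] at h6

/-- commutation with a central element -/
theorem comm_pow {x z y : G} (hxy : Commute x y) {c : ℕ} (h : x * z = y ^ c * z * x) (k : ℕ) :
    x ^ k * z = y ^ (c * k) * z * x ^ k := by
  induction k with
  | zero => simp
  | succ k ih =>
    have e1 : x * y ^ (c * k) = y ^ (c * k) * x := (hxy.pow_right _).eq
    calc x ^ (k + 1) * z = x * (x ^ k * z) := by rw [pow_succ', mul_assoc]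
      _ = x * (y ^ (c * k) * z * x ^ k) := by rw [ih]
      _ = (x * y ^ (c * k)) * z * x ^ k := by simp only [mul_assoc]
      _ = y ^ (c * k) * (x * z) * x ^ k := by rw [e1]; simp only [mul_assoc]
      _ = y ^ (c * k) * (y ^ c * z * x) * x ^ k := by rw [h]
      _ = y ^ (c * k + c) * z * (x * x ^ k) := by rw [pow_add]; simp only [mul_assoc]
      _ = y ^ (c * (k + 1)) * z * x ^ (k + 1) := by rw [← pow_succ', Nat.mul_succ]

theorem comm_pw {x z y : G} (hy : y ^ 3 = 1) (hxy : Commute x y) (hzy : Commute z y) {c : ZMod 3}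
    (h : x * z = y ^ c.val * z * x) (a b : ZMod 3) : pw x a * pw z b = pw y (c * a * b) * pw z b * pw x a := by
  have h1 : x ^ a.val * z = y ^ (c.val * a.val) * z * x ^ a.val := comm_pow hxy h a.val
  have h2 : z * x ^ a.val = (y⁻¹) ^ (c.val * a.val) * x ^ a.val * z := by
    rw [mul_assoc, h1, inv_pow, ← mul_assoc, ← mul_assoc, inv_mul_cancel, one_mul]
  have h3 := comm_pow (x := z) (z := x ^ a.val) (y := y⁻¹) hzy.inv_right h2 b.val
  show x ^ a.val * z ^ b.val = _
  have h4 : y ^ (c.val * a.val * b.val) * (z ^ b.val * x ^ a.val) = x ^ a.val * z ^ b.val := by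
    rw [h3, inv_pow, ← mul_assoc, ← mul_assoc, mul_inv_cancel, one_mul]
  rw [← h4, pow_eq_pw hy, Nat.cast_mul, Nat.cast_mul, ZMod.natCast_val, ZMod.cast_id, ZMod.natCast_val, ZMod.cast_id,
    ZMod.natCast_val, ZMod.cast_id, ← mul_assoc]
  rfl

theorem mm {A B A' B' : G} (h : Commute B A') : A * B * (A' * B') = A * A' * (B * B') := by
  rw [mul_assoc, ← mul_assoc B, h.eq]
  simp only [mul_assoc]

end pow

variable {G : Type u} [Group G] {y : G} {e : Fin 8 → G}

/-- the part of the relations used here -/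
structure NB (y : G) (e : Fin 8 → G) : Prop where
  y3 : y ^ 3 = 1
  y1 : y ≠ 1
  e3 : ∀ j, e j ^ 3 = 1
  ey : ∀ j, e j * y = y * e j
  ee : ∀ i j, e i * e j = y ^ (fm i j).val * e j * e i

/-- the part of the pair `i`, `j` -/
def pr2 (e : Fin 8 → G) (i j : Fin 8) (v : Fin 8 → ZMod 3) : G := pw (e i) (v i) * pw (e j) (v j)

theorem nf_eq (v : Fin 8 → ZMod 3) (b : ZMod 3) :
    nf y e v b = pr2 e 0 1 v * pr2 e 2 3 v * pr2 e 4 5 v * pr2 e 6 7 v * pw y b := by
  simp only [nf, pr2, pw, mul_assoc]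

namespace NB

variable (h : NB y e)
include h

theorem cy (i : Fin 8) : Commute (e i) y := h.ey i

theorem cyp (i : Fin 8) (a b : ZMod 3) : Commute (pw (e i) a) (pw y b) := ((h.cy i).pow_pow _ _)

theorem ecomm (i j : Fin 8) (a b : ZMod 3) :
    pw (e i) a * pw (e j) b = pw y (fm i j * a * b) * pw (e j) b * pw (e i) a :=
  comm_pw h.y3 (h.cy i) (h.cy j) (h.ee i j) a b

theorem ecomm0 {i j : Fin 8} (hij : fm i j = 0) (a b : ZMod 3) : Commute (pw (e i) a) (pw (e j) b) := by
  have h1 := h.ecomm i j a b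
  rw [hij, zero_mul, zero_mul, pw_zero, one_mul] at h1
  exact h1

theorem pr2_y (i j : Fin 8) (v : Fin 8 → ZMod 3) (b : ZMod 3) : Commute (pr2 e i j v) (pw y b) :=
  (h.cyp i _ _).mul_left (h.cyp j _ _)

theorem pr2_comm {i j i' j' : Fin 8} (h1 : fm i i' = 0) (h2 : fm i j' = 0) (h3 : fm j i' = 0) (h4 : fm j j' = 0)
    (v v' : Fin 8 → ZMod 3) : Commute (pr2 e i j v) (pr2 e i' j' v') :=
  ((h.ecomm0 h1 _ _).mul_right (h.ecomm0 h2 _ _)).mul_left ((h.ecomm0 h3 _ _).mul_right (h.ecomm0 h4 _ _))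

theorem pr2_mul (i j : Fin 8) (v v' : Fin 8 → ZMod 3) :
    pr2 e i j v * pr2 e i j v' = pr2 e i j (v + v') * pw y (fm j i * v j * v' i) := by
  have h1 := h.ecomm j i (v j) (v' i)
  have h2 : Commute (pw (e i) (v i)) (pw y (fm j i * v j * v' i)) := h.cyp i _ _
  have h3 : Commute (pr2 e i j (v + v')) (pw y (fm j i * v j * v' i)) := h.pr2_y i j _ _
  calc pr2 e i j v * pr2 e i j v' = pw (e i) (v i) * (pw (e j) (v j) * pw (e i) (v' i)) * pw (e j) (v' j) := by
        simp only [pr2, mul_assoc]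
    _ = pw (e i) (v i) * (pw y (fm j i * v j * v' i) * pw (e i) (v' i) * pw (e j) (v j)) * pw (e j) (v' j) := by
        rw [h1]
    _ = (pw (e i) (v i) * pw y (fm j i * v j * v' i)) * pw (e i) (v' i) * (pw (e j) (v j) * pw (e j) (v' j)) := by
        simp only [mul_assoc]
    _ = pw y (fm j i * v j * v' i) * ((pw (e i) (v i) * pw (e i) (v' i)) * (pw (e j) (v j) * pw (e j) (v' j))) := by
        rw [h2.eq]; simp only [mul_assoc]
    _ = pw y (fm j i * v j * v' i) * pr2 e i j (v + v') := by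
        rw [← pw_add (h.e3 i), ← pw_add (h.e3 j)]; rfl
    _ = _ := h3.eq.symm

theorem mmy (A : G) (i j : Fin 8) (v : Fin 8 → ZMod 3) (a b : ZMod 3) :
    A * pw y a * (pr2 e i j v * pw y b) = A * pr2 e i j v * pw y (a + b) := by
  rw [mm (h.pr2_y i j v a).symm, ← pw_add h.y3]

/-- the multiplication of normal forms -/
theorem nf_mul (v v' : Fin 8 → ZMod 3) : ∃ c : ZMod 3, ∀ z z' : ZMod 3,
    nf y e v z * nf y e v' z' = nf y e (v + v') (z + z' + c) := by
  refine ⟨fm 1 0 * v 1 * v' 0 + fm 3 2 * v 3 * v' 2 + fm 5 4 * v 5 * v' 4 + fm 7 6 * v 7 * v' 6, fun z z' => ?_⟩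
  rw [nf_eq, nf_eq, nf_eq]
  have k2 : ∀ w w' : Fin 8 → ZMod 3, Commute (pr2 e 2 3 w) (pr2 e 0 1 w') := fun w w' =>
    h.pr2_comm (by decide) (by decide) (by decide) (by decide) _ _
  have k4 : ∀ w w' : Fin 8 → ZMod 3, Commute (pr2 e 4 5 w) (pr2 e 0 1 w' * pr2 e 2 3 w') := fun w w' =>
    (h.pr2_comm (by decide) (by decide) (by decide) (by decide) _ _).mul_right
      (h.pr2_comm (by decide) (by decide) (by decide) (by decide) _ _)
  have k6 : ∀ w w' : Fin 8 → ZMod 3, Commute (pr2 e 6 7 w) (pr2 e 0 1 w' * pr2 e 2 3 w' * pr2 e 4 5 w') := fun w w' =>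
    ((h.pr2_comm (by decide) (by decide) (by decide) (by decide) _ _).mul_right
      (h.pr2_comm (by decide) (by decide) (by decide) (by decide) _ _)).mul_right
      (h.pr2_comm (by decide) (by decide) (by decide) (by decide) _ _)
  have k8 : ∀ w' : Fin 8 → ZMod 3, Commute (pw y z) (pr2 e 0 1 w' * pr2 e 2 3 w' * pr2 e 4 5 w' * pr2 e 6 7 w') :=
    fun w' => ((((h.pr2_y _ _ _ _).mul_left (h.pr2_y _ _ _ _)).mul_left (h.pr2_y _ _ _ _)).mul_left
      (h.pr2_y _ _ _ _)).symm
  rw [mm (k8 v'), mm (k6 v v'), mm (k4 v v'), mm (k2 v v'), h.pr2_mul, h.pr2_mul, h.pr2_mul, h.pr2_mul, h.mmy, h.mmy,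
    h.mmy, mul_assoc _ (pw y _) (pw y z * pw y z'), ← pw_add h.y3, ← pw_add h.y3]
  congr 2
  ring

omit h in
theorem nf_zero (b : ZMod 3) : nf y e 0 b = pw y b := by
  rw [nf_eq]
  simp only [pr2, Pi.zero_apply, pw_zero, mul_one, one_mul]

theorem nf_inv (v : Fin 8 → ZMod 3) (b : ZMod 3) : ∃ c, (nf y e v b)⁻¹ = nf y e (-v) c := by
  obtain ⟨c, hc⟩ := h.nf_mul v (-v)
  refine ⟨-b - c, ?_⟩
  rw [inv_eq_iff_mul_eq_one, hc, add_neg_cancel, nf_zero]
  have : b + (-b - c) + c = 0 := by ring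
  rw [this, pw_zero]

/-- `P` as the set of normal forms -/
theorem mem_PP {p : G} : p ∈ PP y e ↔ ∃ v b, p = nf y e v b := by
  constructor
  · intro hp
    induction hp using Subgroup.closure_induction with
    | mem x hx =>
      rcases hx with rfl | ⟨j, rfl⟩
      · exact ⟨0, 1, by rw [nf_zero, pw_one]⟩
      · refine ⟨Pi.single j 1, 0, ?_⟩
        rw [nf_eq, pw_zero, mul_one]
        simp only [pr2]
        fin_cases j <;> simp [pw_zero, pw_one]
    | one => exact ⟨0, 0, by rw [nf_zero, pw_zero]⟩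
    | mul x x' _ _ hx hx' =>
      obtain ⟨v, b, rfl⟩ := hx
      obtain ⟨v', b', rfl⟩ := hx'
      obtain ⟨c, hc⟩ := h.nf_mul v v'
      exact ⟨_, _, hc b b'⟩
    | inv x _ hx =>
      obtain ⟨v, b, rfl⟩ := hx
      obtain ⟨c, hc⟩ := h.nf_inv v b
      exact ⟨_, _, hc⟩
  · rintro ⟨v, b, rfl⟩
    have he : ∀ j, e j ∈ PP y e := fun j => Subgroup.subset_closure (Or.inr ⟨j, rfl⟩)
    have hy : y ∈ PP y e := Subgroup.subset_closure (Or.inl rfl)
    unfold nf
    exact mul_mem (mul_mem (mul_mem (mul_mem (mul_mem (mul_mem (mul_mem (mul_mem (pow_mem (he _) _) (pow_mem (he _) _))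
      (pow_mem (he _) _)) (pow_mem (he _) _)) (pow_mem (he _) _)) (pow_mem (he _) _)) (pow_mem (he _) _))
      (pow_mem (he _) _)) (pow_mem hy _)

omit h in
/-- the commutator with `e i` -/
def Q (y : G) (e : Fin 8 → G) (i : Fin 8) (A : G) (s : ZMod 3) : Prop :=
  e i * A = pw y s * A * e i ∧ ∀ c, Commute A (pw y c)

theorem Q_mul {i : Fin 8} {A B : G} {s t : ZMod 3} (hA : Q y e i A s) (hB : Q y e i B t) :
    Q y e i (A * B) (s + t) := by
  refine ⟨?_, fun c => (hA.2 c).mul_left (hB.2 c)⟩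
  have h1 := (hA.2 t).eq
  calc e i * (A * B) = (e i * A) * B := (mul_assoc _ _ _).symm
    _ = pw y s * A * (e i * B) := by rw [hA.1]; simp only [mul_assoc]
    _ = pw y s * (A * pw y t) * B * e i := by rw [hB.1]; simp only [mul_assoc]
    _ = pw y s * pw y t * (A * B) * e i := by rw [h1]; simp only [mul_assoc]
    _ = _ := by rw [← pw_add h.y3]

theorem Q_e (i j : Fin 8) (a : ZMod 3) : Q y e i (pw (e j) a) (fm i j * a) := by
  refine ⟨?_, fun c => h.cyp j _ _⟩
  have := h.ecomm i j 1 a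
  rwa [pw_one, mul_one] at this

theorem Q_y (i : Fin 8) (b : ZMod 3) : Q y e i (pw y b) 0 := by
  refine ⟨?_, fun c => (Commute.refl y).pow_pow _ _⟩
  rw [pw_zero, one_mul]
  exact ((h.cy i).pow_right _).eq

theorem Q_nf (i : Fin 8) (v : Fin 8 → ZMod 3) (b : ZMod 3) : Q y e i (nf y e v b)
    (fm i 0 * v 0 + fm i 1 * v 1 + fm i 2 * v 2 + fm i 3 * v 3 + fm i 4 * v 4 + fm i 5 * v 5 + fm i 6 * v 6 +
      fm i 7 * v 7 + 0) :=
  h.Q_mul (h.Q_mul (h.Q_mul (h.Q_mul (h.Q_mul (h.Q_mul (h.Q_mul (h.Q_mul (h.Q_e i 0 _) (h.Q_e i 1 _)) (h.Q_e i 2 _))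
    (h.Q_e i 3 _)) (h.Q_e i 4 _)) (h.Q_e i 5 _)) (h.Q_e i 6 _)) (h.Q_e i 7 _)) (h.Q_y i _)

/-- a relation -/
theorem eq_one {v : Fin 8 → ZMod 3} {b : ZMod 3} (hv : nf y e v b = 1) : v = 0 ∧ b = 0 := by
  have key : ∀ i : Fin 8, fm i 0 * v 0 + fm i 1 * v 1 + fm i 2 * v 2 + fm i 3 * v 3 + fm i 4 * v 4 + fm i 5 * v 5 +
      fm i 6 * v 6 + fm i 7 * v 7 + 0 = 0 := by
    intro i
    have h1 := (h.Q_nf i v b).1
    rw [hv, mul_one, mul_one, right_eq_mul] at h1
    exact pw_eq_one h.y3 h.y1 h1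
  have h0 : v = 0 := by
    have k0 := key 0
    have k1 := key 1
    have k2 := key 2
    have k3 := key 3
    have k4 := key 4
    have k5 := key 5
    have k6 := key 6
    have k7 := key 7
    have h2 : (2 : ZMod 3) ≠ 0 := by decide
    simp only [fm, h2, _root_.Fin.isValue, _root_.Matrix.cons_val', _root_.Matrix.cons_val_zero, _root_.Matrix.cons_val_fin_one, _root_.MulZeroClass.zero_mul, _root_.Matrix.cons_val_one, _root_.one_mul, _root_.zero_add, _root_.Matrix.cons_val, _root_.add_zero, _root_.mul_eq_zero, _root_.false_or] at k0 k1 k2 k3 k4 k5 k6 k7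
    funext j
    fin_cases j
    · exact k1
    · exact k0
    · exact k3
    · exact k2
    · exact k5
    · exact k4
    · exact k7
    · exact k6
  refine ⟨h0, ?_⟩
  rw [h0, nf_zero] at hv
  exact pw_eq_one h.y3 h.y1 hv

theorem inj {v v' : Fin 8 → ZMod 3} {b b' : ZMod 3} (hv : nf y e v b = nf y e v' b') : v = v' ∧ b = b' := by
  obtain ⟨c, hc⟩ := h.nf_inv v' b'
  obtain ⟨d, hd⟩ := h.nf_mul v (-v')
  have h1 : nf y e v b * (nf y e v' b')⁻¹ = 1 := by rw [hv, mul_inv_cancel]
  rw [hc, hd] at h1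
  have h2 : v = v' := by
    have := (h.eq_one h1).1
    rwa [← sub_eq_add_neg, sub_eq_zero] at this
  refine ⟨h2, ?_⟩
  subst h2
  have h3 : pw y b = pw y b' := by
    rw [nf_eq, nf_eq] at hv
    exact mul_left_cancel hv
  have h4 : pw y (b - b') * pw y b' = pw y b' := by rw [← pw_add h.y3, sub_add_cancel, h3]
  rw [mul_eq_right] at h4
  exact sub_eq_zero.1 (pw_eq_one h.y3 h.y1 h4)

theorem card : Nat.card (PP y e) = 3 ^ 9 := by
  let f : (Fin 8 → ZMod 3) × ZMod 3 → PP y e := fun x => ⟨nf y e x.1 x.2, h.mem_PP.2 ⟨_, _, rfl⟩⟩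
  have hf : Function.Bijective f := by
    constructor
    · intro x x' hx
      have := h.inj (congrArg Subtype.val hx)
      exact Prod.ext this.1 this.2
    · rintro ⟨p, hp⟩
      obtain ⟨v, b, rfl⟩ := h.mem_PP.1 hp
      exact ⟨(v, b), rfl⟩
  rw [← Nat.card_congr (Equiv.ofBijective f hf), Nat.card_prod, Nat.card_fun, Nat.card_zmod, Nat.card_fin]
  norm_num

/-- `g` has the vector `v` -/
theorem vec_pow {g : G} {v : Fin 8 → ZMod 3} (hg : ∃ b, g = nf y e v b) (k : ℕ) :
    ∃ b, g ^ k = nf y e ((k : ZMod 3) • v) b := by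
  induction k with
  | zero => exact ⟨0, by rw [pow_zero, Nat.cast_zero, zero_smul, nf_zero, pw_zero]⟩
  | succ k ih =>
    obtain ⟨b, hb⟩ := ih
    obtain ⟨b', hb'⟩ := hg
    obtain ⟨c, hc⟩ := h.nf_mul ((k : ZMod 3) • v) v
    refine ⟨b + b' + c, ?_⟩
    rw [pow_succ, hb, hb', hc, Nat.cast_succ, add_smul, one_smul]

theorem vec_pw {g : G} {v : Fin 8 → ZMod 3} (hg : ∃ b, g = nf y e v b) (a : ZMod 3) :
    ∃ b, pw g a = nf y e (a • v) b := by
  obtain ⟨b, hb⟩ := h.vec_pow hg a.val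
  rw [ZMod.natCast_val, ZMod.cast_id] at hb
  exact ⟨b, hb⟩

theorem vec_mul {g g' : G} {v v' : Fin 8 → ZMod 3} (hg : ∃ b, g = nf y e v b) (hg' : ∃ b, g' = nf y e v' b) :
    ∃ b, g * g' = nf y e (v + v') b := by
  obtain ⟨b, rfl⟩ := hg
  obtain ⟨b', rfl⟩ := hg'
  obtain ⟨c, hc⟩ := h.nf_mul v v'
  exact ⟨_, hc b b'⟩

theorem acts {s : G} {M : Fin 8 → Fin 8 → ZMod 3} {C : Fin 8 → ZMod 3} (hM : ∀ j, s⁻¹ * e j * s = nf y e (M j) (C j))
    {ε : ZMod 3} (hy : s⁻¹ * y * s = pw y ε) : Acts y e s M := by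
  intro v b
  have hc : ∀ (g g' : G), s⁻¹ * (g * g') * s = (s⁻¹ * g * s) * (s⁻¹ * g' * s) := fun g g' => by group
  have hp : ∀ (g : G) (a : ZMod 3), s⁻¹ * pw g a * s = pw (s⁻¹ * g * s) a := by
    intro g a
    have := conj_pow (i := a.val) (a := s⁻¹) (b := g)
    rw [inv_inv] at this
    exact this.symm
  have he : ∀ j, ∃ b', s⁻¹ * pw (e j) (v j) * s = nf y e (v j • M j) b' := by
    intro j
    rw [hp]
    exact h.vec_pw ⟨_, hM j⟩ _
  have hyy : ∃ b', s⁻¹ * pw y b * s = nf y e (0 : Fin 8 → ZMod 3) b' := by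
    obtain ⟨b', hb'⟩ := h.vec_pw (v := 0) ⟨ε, by rw [hy, nf_zero]⟩ b (g := s⁻¹ * y * s)
    rw [smul_zero] at hb'
    exact ⟨b', by rw [hp, hb']⟩
  have e1 : nf y e v b = pw (e 0) (v 0) * pw (e 1) (v 1) * pw (e 2) (v 2) * pw (e 3) (v 3) * pw (e 4) (v 4) *
    pw (e 5) (v 5) * pw (e 6) (v 6) * pw (e 7) (v 7) * pw y b := rfl
  rw [e1, hc, hc, hc, hc, hc, hc, hc, hc]
  obtain ⟨b', hb'⟩ := h.vec_mul (h.vec_mul (h.vec_mul (h.vec_mul (h.vec_mul (h.vec_mul (h.vec_mul (h.vec_mul
    (he 0) (he 1)) (he 2)) (he 3)) (he 4)) (he 5)) (he 6)) (he 7)) hyy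
  refine ⟨b', ?_⟩
  rw [hb']
  congr 1
  funext j
  rw [Fin.sum_univ_eight, add_zero]
  rfl

end NB

theorem NB.of_TB {t : G} {w : Fin 6 → G} {k : Fin 2 → G} {n : G} (h : TB y e t w k n) : NB y e :=
  ⟨h.y3, h.y1, h.e3, h.ey, h.ee⟩

/-- **(L1)** normal form -/
theorem nf_of {t : G} {w : Fin 6 → G} {k : Fin 2 → G} {n : G} (h : TB y e t w k n) :
    (∀ p, p ∈ PP y e ↔ ∃ v b, p = nf y e v b) ∧
    (∀ v b v' b', nf y e v b = nf y e v' b' → v = v' ∧ b = b') ∧
    Nat.card (PP y e) = 3 ^ 9 :=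
  ⟨fun _ => (NB.of_TB h).mem_PP, fun _ _ _ _ hv => (NB.of_TB h).inj hv, (NB.of_TB h).card⟩

theorem conj_of_comm {s : G} (hs : s * y = y * s) : s⁻¹ * y * s = pw y 1 := by
  rw [pw_one, mul_assoc, ← hs, inv_mul_cancel_left]

/-- **(L1')** the generators act by their matrices -/
theorem act_of {t : G} {w : Fin 6 → G} {k : Fin 2 → G} {n : G} (h : TB y e t w k n) :
    Acts y e t Mt ∧ (∀ a, Acts y e (w a) (Mw a)) ∧ (∀ c, Acts y e (k c) (Mk c)) ∧ Acts y e n Mn := by
  have hn := NB.of_TB h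
  refine ⟨hn.acts h.te (conj_of_comm h.ty), fun a => hn.acts (h.we a) (conj_of_comm (h.wy a)),
    fun c => hn.acts (h.ke c) (conj_of_comm (h.ky c)), hn.acts (ε := 2) h.ne ?_⟩
  rw [h.ny]
  show y⁻¹ = y ^ 2
  rw [inv_eq_iff_mul_eq_one, ← pow_succ', h.y3]

theorem stNF : StNF := fun h => nf_of h

theorem stAct : StAct := fun h => act_of h

end Cfsg.Agent.H649.U33
end

-- part: H757/U33/StC
section
/-!
# S5525, part F: `N(⟨y⟩)` normalises `P`, `U = P⟨t⟩`, `O` (helper757)
-/

set_option autoImplicit false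
set_option linter.unusedSectionVars false

namespace Cfsg.Agent.H757.U33

open Subgroup Cfsg.Agent.H863.U33

section gen

variable {G : Type*} [Group G]

theorem conj_closure {X : Set G} {N : Subgroup G} {s : G} (h : ∀ x ∈ X, s⁻¹ * x * s ∈ N) {p : G}
    (hp : p ∈ _root_.Subgroup.closure X) : s⁻¹ * p * s ∈ N := by
  have h1 : closure X ≤ N.comap (MulAut.conj s⁻¹).toMonoidHom := by
    rw [closure_le]
    intro x hx
    show s⁻¹ * x * s⁻¹⁻¹ ∈ N
    rw [inv_inv]
    exact h x hx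
  have h2 : s⁻¹ * p * s⁻¹⁻¹ ∈ N := h1 hp
  rwa [inv_inv] at h2

theorem conj_self {N : Subgroup G} {s : G} (hs : s ∈ N) {p : G} (hp : p ∈ N) : s⁻¹ * p * s ∈ N :=
  N.mul_mem (N.mul_mem (N.inv_mem hs) hp) hs

/-- the subgroup of all elements normalising `N` (finite) -/
def Nr (N : Subgroup G) [Finite G] : Subgroup G where
  carrier := {g | ∀ p ∈ N, g⁻¹ * p * g ∈ N}
  one_mem' := fun p hp => by simpa using hp
  mul_mem' := by
    intro a b ha hb p hp
    have : (a * b)⁻¹ * p * (a * b) = b⁻¹ * (a⁻¹ * p * a) * b := by group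
    rw [this]
    exact hb _ (ha _ hp)
  inv_mem' := by
    intro a ha p hp
    have h1 : Function.Injective (fun x : N => (⟨a⁻¹ * x * a, ha x x.2⟩ : N)) := by
      intro x x' hx
      have h2 : a⁻¹ * (x : G) * a = a⁻¹ * x' * a := congrArg Subtype.val hx
      exact Subtype.ext (mul_left_cancel (mul_right_cancel h2))
    obtain ⟨x, hx⟩ := (Finite.injective_iff_surjective.1 h1) ⟨p, hp⟩
    have h2 : a⁻¹ * (x : G) * a = p := congrArg Subtype.val hx
    rw [← h2]
    have : a⁻¹⁻¹ * (a⁻¹ * (x : G) * a) * a⁻¹ = x := by group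
    rw [this]
    exact x.2

theorem mem_Nr [Finite G] {N : Subgroup G} {g : G} : g ∈ Nr N ↔ ∀ p ∈ N, g⁻¹ * p * g ∈ N := Iff.rfl

end gen

section tb

variable {G : Type} [Group G] {y : G} {e : Fin 8 → G} {t : G} {w : Fin 6 → G} {k : Fin 2 → G} {n : G}

theorem PP_le_UU : PP y e ≤ UU y e t := _root_.Subgroup.closure_mono (by intro x hx; exact Or.inl hx)

theorem UU_le_OO : UU y e t ≤ OO y e t w := _root_.Subgroup.closure_mono (by intro x hx; exact Or.inl hx)

theorem OO_le_KK : OO y e t w ≤ KK y e t w k := _root_.Subgroup.closure_mono (by intro x hx; exact Or.inl hx)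

theorem y_mem : y ∈ PP y e := _root_.Subgroup.subset_closure (Or.inl rfl)

theorem e_mem (j : Fin 8) : e j ∈ PP y e := _root_.Subgroup.subset_closure (Or.inr ⟨j, rfl⟩)

theorem t_mem : t ∈ UU y e t := _root_.Subgroup.subset_closure (Or.inr rfl)

theorem w_mem (a : Fin 6) : w a ∈ OO y e t w := _root_.Subgroup.subset_closure (Or.inr ⟨a, rfl⟩)

theorem nf_mem (v : Fin 8 → ZMod 3) (b : ZMod 3) : nf y e v b ∈ PP y e := by
  unfold nf
  refine mul_mem (mul_mem (mul_mem (mul_mem (mul_mem (mul_mem (mul_mem (mul_mem ?_ ?_) ?_) ?_) ?_) ?_) ?_) ?_) ?_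
  all_goals exact pow_mem (by first | exact e_mem _ | exact y_mem) _

theorem wnf_mem (m : Fin 6 → ZMod 2) (c : ZMod 2) : wnf t w m c ∈ OO y e t w := by
  unfold wnf
  refine mul_mem (mul_mem (mul_mem (mul_mem (mul_mem (mul_mem ?_ ?_) ?_) ?_) ?_) ?_) ?_
  all_goals exact pow_mem (by first | exact w_mem _ | exact UU_le_OO t_mem) _

/-- conjugation by `s`: from the data for `P` -/
theorem conj_PP {s : G} (hy : s⁻¹ * y * s ∈ PP y e) (he : ∀ j, s⁻¹ * e j * s ∈ PP y e) :
    ∀ p ∈ PP y e, s⁻¹ * p * s ∈ PP y e := by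
  intro p hp
  refine conj_closure ?_ hp
  rintro x (hx | ⟨j, rfl⟩)
  · rw [Set.mem_singleton_iff.1 hx]; exact hy
  · exact he j

theorem conj_UU {s : G} (h : ∀ p ∈ PP y e, s⁻¹ * p * s ∈ PP y e) (ht : s⁻¹ * t * s ∈ UU y e t) :
    ∀ p ∈ UU y e t, s⁻¹ * p * s ∈ UU y e t := by
  intro p hp
  refine conj_closure ?_ hp
  rintro x (hx | hx)
  · exact PP_le_UU (h x (_root_.Subgroup.subset_closure hx))
  · rw [Set.mem_singleton_iff.1 hx]; exact ht

theorem conj_OO {s : G} (h : ∀ p ∈ UU y e t, s⁻¹ * p * s ∈ UU y e t) (hw : ∀ a, s⁻¹ * w a * s ∈ OO y e t w) :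
    ∀ p ∈ OO y e t w, s⁻¹ * p * s ∈ OO y e t w := by
  intro p hp
  refine conj_closure ?_ hp
  rintro x (hx | ⟨a, rfl⟩)
  · exact UU_le_OO (h x (_root_.Subgroup.subset_closure hx))
  · exact hw a

variable [Finite G]

/-- elements normalising all three -/
def N3 (y : G) (e : Fin 8 → G) (t : G) (w : Fin 6 → G) : Subgroup G :=
  Nr (PP y e) ⊓ Nr (UU y e t) ⊓ Nr (OO y e t w)

theorem mem_N3 {s : G} : s ∈ N3 y e t w ↔ (∀ p ∈ PP y e, s⁻¹ * p * s ∈ PP y e) ∧
    (∀ p ∈ UU y e t, s⁻¹ * p * s ∈ UU y e t) ∧ (∀ p ∈ OO y e t w, s⁻¹ * p * s ∈ OO y e t w) := by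
  unfold N3
  rw [mem_inf, mem_inf, mem_Nr, mem_Nr, mem_Nr, and_assoc]

theorem conj_of_comm {s x : G} (h : s * x = x * s) : s⁻¹ * x * s = x := by
  rw [mul_assoc, ← h, inv_mul_cancel_left]

theorem PP_le_N3 : PP y e ≤ N3 y e t w := fun _ hs => mem_N3.2
  ⟨fun _ hp => conj_self hs hp, fun _ hp => conj_self (PP_le_UU hs) hp,
    fun _ hp => conj_self (UU_le_OO (PP_le_UU hs)) hp⟩

theorem t_mem_N3 (h : TB y e t w k n) : t ∈ N3 y e t w := by
  refine mem_N3.2 ⟨conj_PP ?_ ?_, fun _ hp => conj_self t_mem hp, fun _ hp => conj_self (UU_le_OO t_mem) hp⟩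
  · rw [conj_of_comm h.ty]; exact y_mem
  · intro j; rw [h.te]; exact nf_mem _ _

theorem w_mem_N3 (h : TB y e t w k n) (a : Fin 6) : w a ∈ N3 y e t w := by
  have h1 : ∀ p ∈ PP y e, (w a)⁻¹ * p * w a ∈ PP y e := by
    refine conj_PP ?_ ?_
    · rw [conj_of_comm (h.wy a)]; exact y_mem
    · intro j; rw [h.we]; exact nf_mem _ _
  refine mem_N3.2 ⟨h1, conj_UU h1 ?_, fun _ hp => conj_self (w_mem a) hp⟩
  rw [conj_of_comm (h.wt a)]; exact t_mem

theorem k_mem_N3 (h : TB y e t w k n) (c : Fin 2) : k c ∈ N3 y e t w := by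
  have h1 : ∀ p ∈ PP y e, (k c)⁻¹ * p * k c ∈ PP y e := by
    refine conj_PP ?_ ?_
    · rw [conj_of_comm (h.ky c)]; exact y_mem
    · intro j; rw [h.ke]; exact nf_mem _ _
  have h2 := conj_UU (t := t) h1 (by rw [conj_of_comm (h.kt c)]; exact t_mem)
  refine mem_N3.2 ⟨h1, h2, conj_OO h2 ?_⟩
  intro a; rw [h.kw]; exact wnf_mem _ _

theorem n_mem_N3 (h : TB y e t w k n) : n ∈ N3 y e t w := by
  have h1 : ∀ p ∈ PP y e, n⁻¹ * p * n ∈ PP y e := by
    refine conj_PP ?_ ?_
    · rw [h.ny]; exact inv_mem y_mem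
    · intro j; rw [h.ne]; exact nf_mem _ _
  have h2 := conj_UU (t := t) h1 (by rw [conj_of_comm h.nt]; exact t_mem)
  refine mem_N3.2 ⟨h1, h2, conj_OO h2 ?_⟩
  intro a; rw [h.nw]; exact wnf_mem _ _

theorem KK_le_N3 (h : TB y e t w k n) : KK y e t w k ≤ N3 y e t w := by
  unfold KK
  rw [closure_le]
  rintro x ((((hx | ⟨j, rfl⟩) | hx) | ⟨a, rfl⟩) | ⟨c, rfl⟩)
  · rw [Set.mem_singleton_iff.1 hx]; exact PP_le_N3 y_mem
  · exact PP_le_N3 (e_mem j)
  · rw [Set.mem_singleton_iff.1 hx]; exact t_mem_N3 h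
  · exact w_mem_N3 h a
  · exact k_mem_N3 h c

theorem KK_le_cent (h : TB y e t w k n) : KK y e t w k ≤ centralizer {y} := by
  unfold KK
  rw [closure_le]
  rintro x ((((hx | ⟨j, rfl⟩) | hx) | ⟨a, rfl⟩) | ⟨c, rfl⟩)
  · rw [Set.mem_singleton_iff.1 hx]; exact mem_centralizer_singleton_iff.2 rfl
  · exact mem_centralizer_singleton_iff.2 (h.ey j)
  · rw [Set.mem_singleton_iff.1 hx]; exact mem_centralizer_singleton_iff.2 h.ty
  · exact mem_centralizer_singleton_iff.2 (h.wy a)
  · exact mem_centralizer_singleton_iff.2 (h.ky c)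

theorem cent_eq (hK : StK) (h : TB y e t w k n) (hc : Nat.card (centralizer {y}) ≤ 65303470080) :
    centralizer {y} = KK y e t w k ∧ Nat.card (centralizer {y}) = 65303470080 := by
  have h1 := hK h
  have h2 : KK y e t w k = centralizer {y} := eq_of_le_of_card_ge (KK_le_cent h) (hc.trans h1)
  refine ⟨h2.symm, ?_⟩
  rw [h2] at h1
  omega

theorem norm_y (hK : StK) (h : TB y e t w k n) (hc : Nat.card (centralizer {y}) ≤ 65303470080) {g : G}
    (hg : g⁻¹ * y * g = y ∨ g⁻¹ * y * g = y⁻¹) : g ∈ N3 y e t w := by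
  have hle : centralizer {y} ≤ N3 y e t w := by rw [(cent_eq hK h hc).1]; exact KK_le_N3 h
  rcases hg with hg | hg
  · apply hle
    rw [mem_centralizer_singleton_iff]
    rw [mul_assoc, inv_mul_eq_iff_eq_mul] at hg
    exact hg.symm
  · have h1 : g * n⁻¹ ∈ centralizer {y} := by
      rw [mem_centralizer_singleton_iff]
      have e1 : y * g = g * y⁻¹ := by rw [mul_assoc, inv_mul_eq_iff_eq_mul] at hg; exact hg
      have e3 : n⁻¹ * y = y⁻¹ * n⁻¹ := eq_mul_inv_of_mul_eq h.ny
      rw [mul_assoc, e3, ← mul_assoc, ← e1, mul_assoc]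
    have h2 : g = g * n⁻¹ * n := by group
    rw [h2]
    exact mul_mem (hle h1) (n_mem_N3 h)

/-- elements commuting with `x` modulo `N` -/
def Dx (N : Subgroup G) (x : G) : Subgroup G where
  carrier := {a | a ∈ Nr N ∧ x⁻¹ * a⁻¹ * x * a ∈ N}
  one_mem' := ⟨one_mem _, by simp⟩
  mul_mem' := by
    rintro a b ⟨ha, ha'⟩ ⟨hb, hb'⟩
    refine ⟨mul_mem ha hb, ?_⟩
    have : x⁻¹ * (a * b)⁻¹ * x * (a * b) = x⁻¹ * b⁻¹ * x * b * (b⁻¹ * (x⁻¹ * a⁻¹ * x * a) * b) := by group
    rw [this]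
    exact mul_mem hb' (hb _ ha')
  inv_mem' := by
    rintro a ⟨ha, ha'⟩
    have h1 : a⁻¹ ∈ Nr N := inv_mem ha
    refine ⟨h1, ?_⟩
    have h2 := h1 _ (inv_mem ha')
    have : a⁻¹⁻¹ * (x⁻¹ * a⁻¹ * x * a)⁻¹ * a⁻¹ = x⁻¹ * a⁻¹⁻¹ * x * a⁻¹ := by group
    rwa [this] at h2

/-- `O / U` is commutative -/
theorem comm_mod {X : Set G} {N : Subgroup G} (hX : ∀ x ∈ X, x ∈ Nr N) (hXX : ∀ x ∈ X, ∀ x' ∈ X, x⁻¹ * x'⁻¹ * x * x' ∈ N)
    {p a : G} (hp : p ∈ _root_.Subgroup.closure X) (ha : a ∈ closure X) : p⁻¹ * a⁻¹ * p * a ∈ N := by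
  have h1 : ∀ x ∈ X, x⁻¹ * a⁻¹ * x * a ∈ N := by
    intro x hx
    have : closure X ≤ Dx N x := by
      rw [closure_le]
      intro x' hx'
      exact ⟨hX x' hx', hXX x hx x' hx'⟩
    exact (this ha).2
  have h2 : closure X ≤ Dx N a := by
    rw [closure_le]
    intro x hx
    refine ⟨hX x hx, ?_⟩
    have h3 := inv_mem (h1 x hx)
    have : (x⁻¹ * a⁻¹ * x * a)⁻¹ = a⁻¹ * x⁻¹ * a * x := by group
    rwa [this] at h3
  have h3 := inv_mem (h2 hp).2
  have : (a⁻¹ * p⁻¹ * a * p)⁻¹ = p⁻¹ * a⁻¹ * p * a := by group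
  rwa [this] at h3

theorem comm_OO (h : TB y e t w k n) {p a : G} (hp : p ∈ OO y e t w) (ha : a ∈ OO y e t w) :
    p⁻¹ * (a⁻¹ * p * a) ∈ UU y e t := by
  have hN : ∀ x ∈ OO y e t w, ∀ p ∈ UU y e t, x⁻¹ * p * x ∈ UU y e t := fun x hx =>
    (mem_N3.1 (KK_le_N3 h (OO_le_KK hx))).2.1
  have e0 : p⁻¹ * (a⁻¹ * p * a) = p⁻¹ * a⁻¹ * p * a := by group
  rw [e0]
  refine comm_mod (X := {y} ∪ Set.range e ∪ {t} ∪ Set.range w) ?_ ?_ hp ha
  · intro x hx
    exact hN x (_root_.Subgroup.subset_closure hx)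
  · intro x hx x' hx'
    have hxO : x ∈ OO y e t w := _root_.Subgroup.subset_closure hx
    have hxO' : x' ∈ OO y e t w := _root_.Subgroup.subset_closure hx'
    rcases hx with hx | ⟨i, rfl⟩
    · have hU : x ∈ UU y e t := _root_.Subgroup.subset_closure hx
      have h1 := mul_mem (inv_mem hU) (hN x' hxO' x hU)
      have : x⁻¹ * (x'⁻¹ * x * x') = x⁻¹ * x'⁻¹ * x * x' := by group
      rwa [this] at h1
    · rcases hx' with hx' | ⟨j, rfl⟩
      · have hU : x' ∈ UU y e t := _root_.Subgroup.subset_closure hx'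
        exact mul_mem (hN _ hxO _ (inv_mem hU)) hU
      · have h1 := h.ww i j
        have h2 : (w i)⁻¹ * (w j)⁻¹ * w i * w j = (w j * w i)⁻¹ * (w i * w j) := by group
        have hc : ∀ a, Commute (w a) t := fun a => h.wt a
        have h3 : Commute (w j * w i) (t ^ (bc i j).val) := ((hc j).mul_left (hc i)).pow_right _
        rw [h2, h1, mul_assoc, ← h3.eq, inv_mul_cancel_left]
        exact pow_mem t_mem _

/-- (L4) the image of `K` on `O / U` has at least 25920 elements -/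
def StIm : Prop := ∀ {G : Type} [Group G] [Finite G] {y : G} {e : Fin 8 → G} {t : G} {w : Fin 6 → G} {k : Fin 2 → G} {n : G},
  TB y e t w k n → 25920 * Nat.card {a : G // a ∈ KK y e t w k ∧ ∀ p ∈ OO y e t w, p⁻¹ * (a⁻¹ * p * a) ∈ UU y e t} ≤
    Nat.card (KK y e t w k)

theorem OO_sub (h : TB y e t w k n) : (OO y e t w : Set G) ⊆
    {a : G | a ∈ KK y e t w k ∧ ∀ p ∈ OO y e t w, p⁻¹ * (a⁻¹ * p * a) ∈ UU y e t} :=
  fun _ ha => ⟨OO_le_KK ha, fun _ hp => comm_OO h hp ha⟩

/-- `StK` from the image -/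
theorem stK_of (hO : StO) (hIm : StIm) : StK := by
  intro G _ _ y e t w k n h
  have h1 := hIm h
  have h2 := Set.ncard_le_ncard (OO_sub h) (Set.toFinite _)
  have h3 : (OO y e t w : Set G).ncard = 3 ^ 9 * 2 ^ 7 := hO h
  have h4 : {a : G | a ∈ KK y e t w k ∧ ∀ p ∈ OO y e t w, p⁻¹ * (a⁻¹ * p * a) ∈ UU y e t}.ncard =
    Nat.card {a : G // a ∈ KK y e t w k ∧ ∀ p ∈ OO y e t w, p⁻¹ * (a⁻¹ * p * a) ∈ UU y e t} := rfl
  rw [h3, h4] at h2
  omega

/-- the kernel of the action on `O / U` -/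
theorem mem_OO_of (hO : StO) (hIm : StIm) (h : TB y e t w k n) (hc : Nat.card (centralizer {y}) ≤ 65303470080) {g : G}
    (hg : g ∈ centralizer {y}) (hg' : ∀ p ∈ OO y e t w, p⁻¹ * (g⁻¹ * p * g) ∈ UU y e t) : g ∈ OO y e t w := by
  have h1 := hIm h
  have h3 : (OO y e t w : Set G).ncard = 3 ^ 9 * 2 ^ 7 := hO h
  have h4 : {a : G | a ∈ KK y e t w k ∧ ∀ p ∈ OO y e t w, p⁻¹ * (a⁻¹ * p * a) ∈ UU y e t}.ncard =
    Nat.card {a : G // a ∈ KK y e t w k ∧ ∀ p ∈ OO y e t w, p⁻¹ * (a⁻¹ * p * a) ∈ UU y e t} := rfl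
  have h5 := cent_eq (stK_of hO hIm) h hc
  rw [← h5.1, h5.2] at h1
  rw [h5.1] at h1 hg
  have h6 := Set.eq_of_subset_of_ncard_le (OO_sub h) (by rw [h3, h4]; omega) (Set.toFinite _)
  have h7 : g ∈ {a : G | a ∈ KK y e t w k ∧ ∀ p ∈ OO y e t w, p⁻¹ * (a⁻¹ * p * a) ∈ UU y e t} := ⟨hg, hg'⟩
  rw [← h6] at h7
  exact h7

/-- the 3-elements of `O` -/
theorem pow_nine (hNF : StNF) (hO : StO) (h : TB y e t w k n) {g : G} (hg : g ∈ OO y e t w) (h9 : g ^ 9 = 1) :
    g ∈ PP y e := by
  have hle : PP y e ≤ OO y e t w := PP_le_UU.trans UU_le_OO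
  have c1 : Nat.card (PP y e) = 3 ^ 9 := (hNF h).2.2
  have c2 : Nat.card (OO y e t w) = 3 ^ 9 * 2 ^ 7 := hO h
  have hi : (PP y e).relIndex (OO y e t w) = 2 ^ 7 := by
    have := relIndex_mul_relIndex (⊥ : Subgroup G) (PP y e) (OO y e t w) bot_le hle
    rw [relIndex_bot_left, relIndex_bot_left, c1, c2] at this
    exact Nat.eq_of_mul_eq_mul_left (by norm_num) this
  have hn : ((PP y e).subgroupOf (OO y e t w)).Normal := by
    constructor
    rintro ⟨x, hx⟩ hx' ⟨s, hs⟩
    have h1 : s⁻¹ ∈ N3 y e t w := inv_mem (KK_le_N3 h (OO_le_KK hs))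
    have h2 := (mem_N3.1 h1).1 x hx'
    rw [inv_inv] at h2
    exact h2
  have h3 := Subgroup.pow_index_mem ((PP y e).subgroupOf (OO y e t w)) (⟨g, hg⟩ : OO y e t w)
  have h4 : ((PP y e).subgroupOf (OO y e t w)).index = 2 ^ 7 := hi
  rw [h4] at h3
  have h5 : g ^ 128 ∈ PP y e := h3
  have h6 : g = (g ^ 128) ^ 5 := by
    rw [← pow_mul]
    have : 128 * 5 = 9 * 71 + 1 := by norm_num
    rw [this, pow_add, pow_mul, h9, one_pow, one_mul, pow_one]
  rw [h6]
  exact pow_mem h5 5

end tb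

/-- **(L4') + (L7)** -/
theorem stC (hNF : StNF) (hO : StO) (hIm : StIm) : StC := by
  intro G _ _ y e t w k n h hc
  obtain ⟨h1, h2⟩ := cent_eq (stK_of hO hIm) h hc
  exact ⟨h1, h2, fun g hg => mem_N3.1 (norm_y (stK_of hO hIm) h hc hg),
    fun g hg hg' => mem_OO_of hO hIm h hc hg hg', fun g hg h9 => pow_nine hNF hO h hg h9⟩

end Cfsg.Agent.H757.U33
end

-- part: H604/U33/Mat
section
/-!
# S5525, part F, piece L4: the group generated by the two `6 × 6` matrices `Kw 0`, `Kw 1` over `F₂` (helper604)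

`card_ge` : a subgroup of `Perm (F₂⁶)` containing `v ↦ v (Kw 0)` and `v ↦ v (Kw 1)` has order at least `25920` (`= |U₄(2)|`).
Proof: a stabiliser chain with orbits of lengths 27, 10, 8, 4, 3.
-/

set_option autoImplicit false
set_option maxRecDepth 10000

namespace Cfsg.Agent.H604.U33.Mat

open Cfsg.Agent.H863.U33

/-- `F₂⁶` -/
abbrev X : Type := Fin 6 → ZMod 2

/-- row vector times matrix -/
def mu (A : Fin 6 → Fin 6 → ZMod 2) (v : X) : X := fun j => ∑ i, v i * A i j

/-- the tables of the two matrices, 6 bits per vector -/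
def tb (c : Fin 2) : ℕ := match c with
  | 0 => 0x28b6193ce75cebba29ffeb6c69b2097de34caabe39beef7cdb7925cf28601875150c24509a7d358e2c705971054d2040
  | 1 => 0x6068bc7029b844faf554bbf1ab440ebb050a8fd6479f97436c587f7c197b48ca36588b32a774cdb735c983e68493a780

/-- the matrices on vectors coded by numbers -/
def ap (c : Fin 2) (x : ℕ) : ℕ := (tb c >>> (6 * x)) % 64

/-- decoding -/
def dec (x : ℕ) : X := fun j => if x.testBit j then 1 else 0

theorem ap_lt (c : Fin 2) (x : ℕ) : ap c x < 64 := Nat.mod_lt _ (by norm_num)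

theorem mu_dec' : ∀ (c : Fin 2) (x : Fin 64), mu (Kw c) (dec x) = dec (ap c x) := by decide +kernel

theorem mu_dec (c : Fin 2) {x : ℕ} (h : x < 64) : mu (Kw c) (dec x) = dec (ap c x) := mu_dec' c ⟨x, h⟩

private noncomputable def _root_.Cfsg.Agent.KOb2dda24.k8 : type_of% @Decidable.decide := @(fun x0 x1 => @Decidable.rec.{1} _ @(fun x2 => @Bool) @(fun x2 => @Bool.false) @(fun x2 => @Bool.true) @x1)
private theorem _root_.Cfsg.Agent.KOb2dda24.e8 : @Decidable.decide = @_root_.Cfsg.Agent.KOb2dda24.k8 := by delta _root_.Cfsg.Agent.KOb2dda24.k8; rfl'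
private noncomputable def _root_.Cfsg.Agent.KOb2dda24.k9l (n : Nat) (P : ∀ k, k < n → Prop) (H : ∀ k h, Decidable (P k h)) (m : Nat) : m ≤ n → Bool := @Nat.rec (fun m => m ≤ n → Bool) (fun _ => true) (fun k ih h => @Decidable.rec (P k h) (fun _ => Bool) (fun _ => false) (fun _ => ih (Nat.le_of_succ_le h)) (H k h)) m
private theorem _root_.Cfsg.Agent.KOb2dda24.k9ls (n : Nat) (P : ∀ k, k < n → Prop) (H : ∀ k h, Decidable (P k h)) (m : Nat) : ∀ h : m ≤ n, _root_.Cfsg.Agent.KOb2dda24.k9l n P H m h = true ↔ ∀ k (g : k < m), P k (Nat.lt_of_lt_of_le g h) := by induction m with | zero => exact fun _ => ⟨fun _ _ g => absurd g (Nat.not_lt_zero _), fun _ => rfl⟩ | succ m ih => intro h; show @Decidable.rec (P m h) (fun _ => Bool) (fun _ => false) (fun _ => _root_.Cfsg.Agent.KOb2dda24.k9l n P H m (Nat.le_of_succ_le h)) (H m h) = true ↔ _; cases H m h with | isFalse q => exact ⟨fun g => absurd g Bool.false_ne_true, fun g => absurd (g m (Nat.lt_succ_self m)) q⟩ | isTrue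 q => exact ⟨fun g k hk => (Nat.lt_succ_iff_lt_or_eq.1 hk).elim ((ih _).1 g k) fun e => by subst e; exact q, fun g => (ih _).2 fun k hk => g k (Nat.lt_succ_of_lt hk)⟩
private noncomputable def _root_.Cfsg.Agent.KOb2dda24.k9 (n : Nat) (P : ∀ k, k < n → Prop) (H : ∀ k h, Decidable (P k h)) : Decidable (∀ k h, P k h) := @Bool.rec (fun b => _root_.Cfsg.Agent.KOb2dda24.k9l n P H n (Nat.le_refl n) = b → Decidable (∀ k h, P k h)) (fun g => isFalse fun q => Bool.false_ne_true (g.symm.trans ((_root_.Cfsg.Agent.KOb2dda24.k9ls n P H n _).2 fun k h => q k h))) (fun g => isTrue fun k h => (_root_.Cfsg.Agent.KOb2dda24.k9ls n P H n _).1 g k h) (_root_.Cfsg.Agent.KOb2dda24.k9l n P H n (Nat.le_refl n)) rfl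
private theorem _root_.Cfsg.Agent.KOb2dda24.e9 : @Nat.decidableBallLT = @_root_.Cfsg.Agent.KOb2dda24.k9 := funext fun _ => funext fun _ => funext fun _ => Subsingleton.elim _ _
private noncomputable def _root_.Cfsg.Agent.KOb2dda24.k10 : type_of% @Nat.decidableForallFin := @(fun x0 x1 x2 => @Decidable.rec.{1} _ @(fun x3 => @Decidable ((x4 : @Fin @x0) → @x1 @x4)) @(fun x3 => @Decidable.isFalse _ (@decidable_of_decidable_of_iff._proof_1 _ _ (@Nat.decidableForallFin._proof_1 _ @x1) @x3)) @(fun x3 => @Decidable.isTrue _ (@Iff.mp _ _ (@Nat.decidableForallFin._proof_1 _ @x1) @x3)) (@Cfsg.Agent.KOb2dda24.k9 @x0 @(fun x3 x4 => @x1 (@Fin.mk _ @x3 @x4)) @(fun x3 x4 => @x2 (@Fin.mk _ @x3 @x4))))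
private theorem _root_.Cfsg.Agent.KOb2dda24.e10 : @Nat.decidableForallFin = @_root_.Cfsg.Agent.KOb2dda24.k10 := by delta _root_.Cfsg.Agent.KOb2dda24.k10; rewrite [← Cfsg.Agent.KOb2dda24.e9]; rfl'
private noncomputable def _root_.Cfsg.Agent.KOb2dda24.k11 : type_of% @Nat.decEq := @(fun x0 x1 => @Bool.rec.{1} @(fun x2 => (@Eq.{1} _ (@Nat.beq @x0 @x1) @x2) → @Decidable (@Eq.{1} _ @x0 @x1)) @(fun x2 => @Decidable.isFalse _ (@Nat.ne_of_beq_eq_false _ _ @x2)) @(fun x2 => @Decidable.isTrue _ (@Nat.eq_of_beq_eq_true _ _ @x2)) (@Nat.beq @x0 @x1) (@Eq.refl.{1} _ (@Nat.beq @x0 @x1)))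
private theorem _root_.Cfsg.Agent.KOb2dda24.e11 : @Nat.decEq = @_root_.Cfsg.Agent.KOb2dda24.k11 := by delta _root_.Cfsg.Agent.KOb2dda24.k11; rfl'
private noncomputable def _root_.Cfsg.Agent.KOb2dda24.k23.{ku0, ku1} : type_of% @Quot.rec.{ku0, ku1} := @(fun x0 x1 x2 x3 x4 x5 => @Eq.rec.{ku1, ku0} (@Quot.{ku0} _ @x1) (@PSigma.fst.{ku0, ku1} _ _ (@Quot.lift.{ku0, (max (max 1 ku1) ku0)} _ _ _ (@Quot.indep.{ku0, ku1} _ _ _ @x3) (@Quot.indepCoherent.{ku0, ku1} _ _ _ @x3 @x4) @x5)) @(fun x6 x7 => @x2 @x6) (@PSigma.snd.{ku0, ku1} _ _ (@Quot.lift.{ku0, (max (max 1 ku1) ku0)} _ _ _ (@Quot.indep.{ku0, ku1} _ _ _ @x3) (@Quot.indepCoherent.{ku0, ku1} _ _ _ @x3 @x4) @x5)) @x5 (@Quot.liftIndepPr1.{ku0, ku1} _ _ _ @x3 @x4 @x5))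
private theorem _root_.Cfsg.Agent.KOb2dda24.e23.{ku0, ku1} : @Quot.rec.{ku0, ku1} = @_root_.Cfsg.Agent.KOb2dda24.k23.{ku0, ku1} := by delta _root_.Cfsg.Agent.KOb2dda24.k23; rfl'
private noncomputable def _root_.Cfsg.Agent.KOb2dda24.k24.{ku0, ku1} : type_of% @Quot.recOnSubsingleton.{ku0, ku1} := @(fun x0 x1 x2 x3 x4 x5 => @Cfsg.Agent.KOb2dda24.k23.{ku0, ku1} _ _ @(fun x6 => @x2 @x6) @(fun x6 => @x5 @x6) (@Quot.recOnSubsingleton._proof_1.{ku1, ku0} _ _ _ _ @x5) @x4)
private theorem _root_.Cfsg.Agent.KOb2dda24.e24.{ku0, ku1} : @Quot.recOnSubsingleton.{ku0, ku1} = @_root_.Cfsg.Agent.KOb2dda24.k24.{ku0, ku1} := by delta _root_.Cfsg.Agent.KOb2dda24.k24; rewrite [← Cfsg.Agent.KOb2dda24.e23.{ku0, ku1}]; rfl'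
private theorem _root_.Cfsg.Agent.KOb2dda24.e25.{ku, kv} {α : Type kv} {M : List α → Sort ku} (φ : ∀ l, M l) {z : M List.nil} {s : ∀ a l, M l → M (List.cons a l)} (h0 : φ List.nil = z) (hs : ∀ a l, φ (List.cons a l) = s a l (φ l)) (l : List α) : φ l = @List.rec α M z s l := List.rec h0 (fun a l ih => (hs a l).trans (congrArg (s a l) ih)) l
private noncomputable def _root_.Cfsg.Agent.KOb2dda24.k26.{ku0} : type_of% @List.decidableBAll.{ku0} := @(fun x0 x1 x2 x3 => @List.rec.{1, ku0} @x0 @(fun x4 => @Decidable ((x5 : @x0) → (@Membership.mem.{ku0, ku0} _ _ _ @x4 @x5) → @x1 @x5)) (@Decidable.isTrue _ (@List.decidableBAll._proof_1.{ku0} _ @x1)) @(fun x4 x5 x6 => @Decidable.rec.{1} _ @(fun x7 => @Decidable ((x8 : @x0) → (@Membership.mem.{ku0, ku0} _ _ _ (@x4 :: @x5) @x8) → @x1 @x8)) @(fun x7 => @Decidable.isFalse _ (@List.decidableBAll._proof_4.{ku0} _ @x1 @x4 @x5 @x7)) @(fun x7 => @Decidable.rec.{1} _ @(fun x8 => @Decidable ((x9 : @x0) → (@Membership.mem.{ku0,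 ku0} _ _ _ (@x4 :: @x5) @x9) → @x1 @x9)) @(fun x8 => @Decidable.isFalse _ (@List.decidableBAll._proof_3.{ku0} _ @x1 @x4 @x5 @x8)) @(fun x8 => @Decidable.isTrue _ (@List.decidableBAll._proof_2.{ku0} _ @x1 @x4 @x5 @x7 @x8)) @x6) (@x2 @x4)) @x3)
private theorem _root_.Cfsg.Agent.KOb2dda24.e26.{ku0} : @List.decidableBAll.{ku0} = @_root_.Cfsg.Agent.KOb2dda24.k26.{ku0} := by delta _root_.Cfsg.Agent.KOb2dda24.k26; funext a0 a1 a2 a3; refine (_root_.Cfsg.Agent.KOb2dda24.e25 (fun a3 => @List.decidableBAll.{ku0} a0 a1 a2 a3) ?_ (fun c0 c1 => ?_) a3 :) <;> (rfl')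
private noncomputable def _root_.Cfsg.Agent.KOb2dda24.k27.{ku0} : type_of% @Multiset.decidableForallMultiset.{ku0} := @(fun (x0 : Sort (ku0+1)) (x1 : @Multiset.{ku0} @x0) (x2 : (x0 → Prop)) (x3 : ((x3 : x0) → @Decidable (@x2 @x3))) => @Cfsg.Agent.KOb2dda24.k24.{(ku0+1), 1} (@List.{ku0} @x0) (@Setoid.r.{(ku0+1)} (@List.{ku0} @x0) (@List.isSetoid.{ku0} @x0)) @(fun (x4 : @Quotient.{(ku0+1)} (@List.{ku0} @x0) (@List.isSetoid.{ku0} @x0)) => @Decidable ((x5 : x0) → ((@Membership.mem.{ku0, ku0} @x0 (@Multiset.{ku0} @x0) (@Multiset.instMembership.{ku0} @x0) @x4 @x5) → @x2 @x5))) (@Multiset.decidableForallMultiset._proof_2.{ku0} @x0 @x2) @x1 @(fun (x4 : @List.{ku0} @x0) => @Decidable.rec.{1} ((x5 : x0) → ((@Membership.mem.{ku0, ku0} @x0 (@List.{ku0} @x0) (@List.instMembership.{ku0} @x0) @x4 @x5) → @x2 @x5)) @(fun (x5 : @Decidable ((x5 : x0) → ((@Membership.mem.{ku0, ku0} @x0 (@List.{ku0} @x0) (@List.instMembership.{ku0} @x0) @x4 @x5) → @x2 @x5))) => @Decidable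 ((x6 : x0) → ((@Membership.mem.{ku0, ku0} @x0 (@Multiset.{ku0} @x0) (@Multiset.instMembership.{ku0} @x0) (@Quotient.mk.{(ku0+1)} (@List.{ku0} @x0) (@List.isSetoid.{ku0} @x0) @x4) @x6) → @x2 @x6))) @(fun (x5 : @Not ((x5 : x0) → ((@Membership.mem.{ku0, ku0} @x0 (@List.{ku0} @x0) (@List.instMembership.{ku0} @x0) @x4 @x5) → @x2 @x5))) => @Decidable.isFalse ((x6 : x0) → ((@Membership.mem.{ku0, ku0} @x0 (@Multiset.{ku0} @x0) (@Multiset.instMembership.{ku0} @x0) (@Quotient.mk.{(ku0+1)} (@List.{ku0} @x0) (@List.isSetoid.{ku0} @x0) @x4) @x6) → @x2 @x6)) (@decidable_of_decidable_of_iff._proof_1 ((x6 : x0) → ((@Membership.mem.{ku0, ku0} @x0 (@List.{ku0} @x0) (@List.instMembership.{ku0} @x0) @x4 @x6) → @x2 @x6)) ((x6 : x0) → ((@Membership.mem.{ku0, ku0} @x0 (@Multiset.{ku0} @x0) (@Multiset.instMembership.{ku0} @x0) (@Quotient.mk.{(ku0+1)} (@List.{ku0} @x0) (@List.isSetoid.{ku0} @x0) @x4) @x6) → @x2 @x6)) (@Multiset.decidableForallMultiset._proof_1.{ku0} @x0 @x2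 @x4) @x5)) @(fun (x5 : ((x5 : x0) → ((@Membership.mem.{ku0, ku0} @x0 (@List.{ku0} @x0) (@List.instMembership.{ku0} @x0) @x4 @x5) → @x2 @x5))) => @Decidable.isTrue ((x6 : x0) → ((@Membership.mem.{ku0, ku0} @x0 (@Multiset.{ku0} @x0) (@Multiset.instMembership.{ku0} @x0) (@Quotient.mk.{(ku0+1)} (@List.{ku0} @x0) (@List.isSetoid.{ku0} @x0) @x4) @x6) → @x2 @x6)) (@Iff.mp ((x6 : x0) → ((@Membership.mem.{ku0, ku0} @x0 (@List.{ku0} @x0) (@List.instMembership.{ku0} @x0) @x4 @x6) → @x2 @x6)) ((x6 : x0) → ((@Membership.mem.{ku0, ku0} @x0 (@Multiset.{ku0} @x0) (@Multiset.instMembership.{ku0} @x0) (@Quotient.mk.{(ku0+1)} (@List.{ku0} @x0) (@List.isSetoid.{ku0} @x0) @x4) @x6) → @x2 @x6)) (@Multiset.decidableForallMultiset._proof_1.{ku0} @x0 @x2 @x4) @x5)) (@Cfsg.Agent.KOb2dda24.k26.{ku0} @x0 @x2 @x3 @x4)))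
private theorem _root_.Cfsg.Agent.KOb2dda24.e27.{ku0} : @Multiset.decidableForallMultiset.{ku0} = @_root_.Cfsg.Agent.KOb2dda24.k27.{ku0} := by delta _root_.Cfsg.Agent.KOb2dda24.k27; rewrite [← Cfsg.Agent.KOb2dda24.e26.{ku0}, ← Cfsg.Agent.KOb2dda24.e24.{(ku0+1), 1}]; rfl'
private noncomputable def _root_.Cfsg.Agent.KOb2dda24.k31.{ku0} : type_of% @Multiset.decidableDforallMultiset.{ku0} := @(fun x0 x1 x2 x3 => @Decidable.rec.{1} _ @(fun x4 => @Decidable ((x5 : @x0) → (x6 : @Membership.mem.{ku0, ku0} _ _ _ @x1 @x5) → @x2 @x5 @x6)) @(fun x4 => @Decidable.isFalse _ (@decidable_of_decidable_of_iff._proof_1 _ _ (@Multiset.decidableDforallMultiset._proof_2.{ku0} _ _ _) @x4)) @(fun x4 => @Decidable.isTrue _ (@Iff.mp _ _ (@Multiset.decidableDforallMultiset._proof_2.{ku0} _ _ _) @x4)) (@Cfsg.Agent.KOb2dda24.k27.{ku0} _ _ @(fun x4 => @x2 (@Subtype.val.{(ku0+1)} _ @(fun x5 => @Membership.mem.{ku0, ku0} _ _ _ @x1 @x5) @x4) (@Multiset.decidableDforallMultiset._proof_1.{ku0}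 _ _ @x4)) @(fun x4 => @x3 (@Subtype.val.{(ku0+1)} _ @(fun x5 => @Membership.mem.{ku0, ku0} _ _ _ @x1 @x5) @x4) (@Multiset.decidableDforallMultiset._proof_1.{ku0} _ _ @x4))))
private theorem _root_.Cfsg.Agent.KOb2dda24.e31.{ku0} : @Multiset.decidableDforallMultiset.{ku0} = @_root_.Cfsg.Agent.KOb2dda24.k31.{ku0} := by delta _root_.Cfsg.Agent.KOb2dda24.k31; rewrite [← Cfsg.Agent.KOb2dda24.e27.{ku0}]; rfl'
private noncomputable def _root_.Cfsg.Agent.KOb2dda24.k32.{ku0} : type_of% @Finset.decidableDforallFinset.{ku0} := @(fun x0 x1 x2 x3 => @Cfsg.Agent.KOb2dda24.k31.{ku0} _ _ _ @x3)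
private theorem _root_.Cfsg.Agent.KOb2dda24.e32.{ku0} : @Finset.decidableDforallFinset.{ku0} = @_root_.Cfsg.Agent.KOb2dda24.k32.{ku0} := by delta _root_.Cfsg.Agent.KOb2dda24.k32; rewrite [← Cfsg.Agent.KOb2dda24.e31.{ku0}]; rfl'
private noncomputable def _root_.Cfsg.Agent.KOb2dda24.k33.{ku0, ku1} : type_of% @Fintype.decidablePiFintype.{ku0, ku1} := @(fun x0 x1 x2 x3 x4 x5 => @Decidable.rec.{1} _ @(fun x6 => @Decidable (@Eq.{(max (ku0+1) (ku1+1))} _ @x4 @x5)) @(fun x6 => @Decidable.isFalse _ (@decidable_of_decidable_of_iff._proof_1 _ _ (@Fintype.decidablePiFintype._proof_2.{ku1, ku0} _ _ _ @x4 @x5) @x6)) @(fun x6 => @Decidable.isTrue _ (@Iff.mp _ _ (@Fintype.decidablePiFintype._proof_2.{ku1, ku0} _ _ _ @x4 @x5) @x6)) (@Cfsg.Agent.KOb2dda24.k32.{ku1} _ _ @(fun x6 x7 => @Eq.{(ku0+1)} _ (@x4 @x6) (@x5 @x6)) @(fun x6 x7 => @x2 @x6 (@x4 @x6) (@x5 @x6))))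
private theorem _root_.Cfsg.Agent.KOb2dda24.e33.{ku0, ku1} : @Fintype.decidablePiFintype.{ku0, ku1} = @_root_.Cfsg.Agent.KOb2dda24.k33.{ku0, ku1} := by delta _root_.Cfsg.Agent.KOb2dda24.k33; rewrite [← Cfsg.Agent.KOb2dda24.e32.{ku1}]; rfl'
private noncomputable def _root_.Cfsg.Agent.KOb2dda24.k34 : type_of% @Int.decEq := @(fun x0 x1 => @Int.rec.{1} @(fun x2 => @Decidable (@Eq.{1} _ @x2 @x1)) @(fun x2 => @Int.rec.{1} @(fun x3 => @Decidable (@Eq.{1} _ (@Int.ofNat @x2) @x3)) @(fun x3 => @Decidable.rec.{1} _ @(fun x4 => @Decidable (@Eq.{1} _ (@Int.ofNat @x2) (@Int.ofNat @x3))) @(fun x4 => @Decidable.isFalse _ (@Int.decEq._proof_2 @x2 @x3 @x4)) @(fun x4 => @Decidable.isTrue _ (@Int.decEq._proof_1 @x2 @x3 @x4)) (@Cfsg.Agent.KOb2dda24.k11 @x2 @x3)) @(fun x3 => @Decidable.isFalse _ (@Int.decEq._proof_3 @x2 @x3)) @x1) @(fun x2 => @Int.rec.{1} @(fun x3 => @Decidable (@Eq.{1} _ (@Int.negSucc @x2) @x3)) @(fun x3 => @Decidable.isFalse _ (@Int.decEq._proof_4 @x2 @x3))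 @(fun x3 => @Decidable.rec.{1} _ @(fun x4 => @Decidable (@Eq.{1} _ (@Int.negSucc @x2) (@Int.negSucc @x3))) @(fun x4 => @Decidable.isFalse _ (@Int.decEq._proof_6 @x2 @x3 @x4)) @(fun x4 => @Decidable.isTrue _ (@Int.decEq._proof_5 @x2 @x3 @x4)) (@Cfsg.Agent.KOb2dda24.k11 @x2 @x3)) @x1) @x0)
private theorem _root_.Cfsg.Agent.KOb2dda24.e34 : @Int.decEq = @_root_.Cfsg.Agent.KOb2dda24.k34 := by delta _root_.Cfsg.Agent.KOb2dda24.k34; rewrite [← Cfsg.Agent.KOb2dda24.e11]; rfl'
private noncomputable def _root_.Cfsg.Agent.KOb2dda24.k35 : type_of% @instDecidableEqFin := @(fun x0 x1 x2 => @Decidable.rec.{1} _ @(fun x3 => @Decidable (@Eq.{1} _ @x1 @x2)) @(fun x3 => @Decidable.isFalse _ (@instDecidableEqFin._proof_1 @x0 @x1 @x2 @x3)) @(fun x3 => @Decidable.isTrue _ (@Fin.eq_of_val_eq _ _ _ @x3)) (@Cfsg.Agent.KOb2dda24.k11 (@Fin.val _ @x1) (@Fin.val _ @x2)))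
private theorem _root_.Cfsg.Agent.KOb2dda24.e35 : @instDecidableEqFin = @_root_.Cfsg.Agent.KOb2dda24.k35 := by delta _root_.Cfsg.Agent.KOb2dda24.k35; rewrite [← Cfsg.Agent.KOb2dda24.e11]; rfl'
private noncomputable def _root_.Cfsg.Agent.KOb2dda24.k36 : type_of% @ZMod.decidableEq := @(fun x0 => @Nat.rec.{1} @(fun x1 => @DecidableEq.{1} (@ZMod @x1)) @Cfsg.Agent.KOb2dda24.k34 @(fun x1 x2 => @Cfsg.Agent.KOb2dda24.k35 (@Nat.add @x1 (nat_lit 1))) @x0)
private theorem _root_.Cfsg.Agent.KOb2dda24.e36 : @ZMod.decidableEq = @_root_.Cfsg.Agent.KOb2dda24.k36 := by delta _root_.Cfsg.Agent.KOb2dda24.k36; rewrite [← Cfsg.Agent.KOb2dda24.e35, ← Cfsg.Agent.KOb2dda24.e34]; rfl'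
private noncomputable def _root_.Cfsg.Agent.KOb2dda24.oB.{ku} (α : Sort ku) (c : Bool) (f t : α) : α := @Decidable.rec (c = true) (fun _ => α) (fun _ => f) (fun _ => t) (instDecidableEqBool c true)
private noncomputable def _root_.Cfsg.Agent.KOb2dda24.k48.{ku} (α : Sort ku) (c : Bool) (f t : α) : α := @Bool.rec (fun _ => α) f t c
private theorem _root_.Cfsg.Agent.KOb2dda24.e48.{ku} : @_root_.Cfsg.Agent.KOb2dda24.oB.{ku} = @_root_.Cfsg.Agent.KOb2dda24.k48.{ku} := funext fun α => funext fun c => funext fun f => funext fun t => by cases c <;> rfl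
private noncomputable def _root_.Cfsg.Agent.KOb2dda24.oEq.{ku} (α : Sort ku) (a b : Nat) (f t : α) : α := @Decidable.rec (a = b) (fun _ => α) (fun _ => f) (fun _ => t) (Nat.decEq a b)
private noncomputable def _root_.Cfsg.Agent.KOb2dda24.k49.{ku} (α : Sort ku) (a b : Nat) (f t : α) : α := @Bool.rec (fun _ => α) f t (Nat.beq a b)
private theorem _root_.Cfsg.Agent.KOb2dda24.e49.{ku} : @_root_.Cfsg.Agent.KOb2dda24.oEq.{ku} = @_root_.Cfsg.Agent.KOb2dda24.k49.{ku} := funext fun α => funext fun a => funext fun b => funext fun f => funext fun t => by delta _root_.Cfsg.Agent.KOb2dda24.oEq _root_.Cfsg.Agent.KOb2dda24.k49; cases h : Nat.beq a b <;> cases Nat.decEq a b <;> rename_i g <;> first | rfl | exact absurd g (Nat.ne_of_beq_eq_false h) | exact absurd (Nat.eq_of_beq_eq_true h) g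
private noncomputable def _root_.Cfsg.Agent.KOb2dda24.k50 : (by first | exact type_of% @Cfsg.Agent.H604.U33.Mat.dec | exact Unit : Sort _) := by first | (refine @Subtype.val _ (fun g => @Cfsg.Agent.H604.U33.Mat.dec = @g) (@Subtype.mk _ _ (@(fun x0 x1 => @Cfsg.Agent.KOb2dda24.k48.{1} (@ZMod ((2 : ℕ))) (@Bool.rec.{1} @(fun x2 => @Bool) @Bool.true @Bool.false (@Cfsg.Agent.KOb2dda24.k49.{1} @Bool (@Nat.land (nat_lit 1) (@Nat.shiftRight @x0 (@Fin.val _ @x1))) (nat_lit 0) @Bool.false @Bool.true)) (@Nat.rec.{1} @(fun x2 => @ZMod @x2) (@Int.ofNat (nat_lit 0)) @(fun x2 x3 => @Fin.mk _ (@Nat.mod (nat_lit 0) (@Nat.succ @x2)) (@Fin.ofNat._proof_1 (@Nat.succ @x2) _ (nat_lit 0))) (nat_lit 2)) (@Nat.rec.{1} @(fun x2 => @ZMod @x2) (@Int.ofNat (nat_lit 1)) @(fun x2 x3 => @Fin.mk _ (@Nat.mod (nat_lit 1) (@Nat.succ @x2)) (@Fin.ofNat._proof_1 (@Nat.succ @x2) _ (nat_lit 1))) (nat_lit 2)))) ?_); rewrite [← Cfsg.Agent.KOb2dda24.e49.{1}, ← Cfsg.Agent.KOb2dda24.e48.{1}]; rfl')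 | exact @Cfsg.Agent.H604.U33.Mat.dec | exact ()
private theorem _root_.Cfsg.Agent.KOb2dda24.e50 : (by first | exact @Cfsg.Agent.H604.U33.Mat.dec = @_root_.Cfsg.Agent.KOb2dda24.k50 | exact True : Prop) := by first | (delta _root_.Cfsg.Agent.KOb2dda24.k50; exact @Subtype.property _ (fun g => @Cfsg.Agent.H604.U33.Mat.dec = @g) _) | rfl | trivial
private noncomputable def _root_.Cfsg.Agent.KOb2dda24.k53 : type_of% @forall_prop_decidable := @(fun x0 x1 x2 x3 => @Decidable.rec.{1} _ @(fun x4 => @Decidable ((x5 : @x0) → @x1 @x5)) @(fun x4 => @Decidable.isTrue _ (@forall_prop_decidable._proof_2 _ @x1 @x4)) @(fun x4 => @Decidable.rec.{1} _ @(fun x5 => @Decidable ((x6 : @x0) → @x1 @x6)) @(fun x5 => @Decidable.isFalse _ (@decidable_of_decidable_of_iff._proof_1 _ _ (@forall_prop_decidable._proof_1 _ @x1 @x4) @x5)) @(fun x5 => @Decidable.isTrue _ (@Iff.mp _ _ (@forall_prop_decidable._proof_1 _ @x1 @x4) @x5)) (@x3 @x4)) @x2)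
private theorem _root_.Cfsg.Agent.KOb2dda24.e53 : @forall_prop_decidable = @_root_.Cfsg.Agent.KOb2dda24.k53 := by delta _root_.Cfsg.Agent.KOb2dda24.k53; rfl'

theorem dec_inj' : ∀ x y : Fin 64, dec x = dec y → x = y := by (first | (refine of_decide_eq_true ?_; rewrite [Cfsg.Agent.KOb2dda24.e8, Cfsg.Agent.KOb2dda24.e10, Cfsg.Agent.KOb2dda24.e53, Cfsg.Agent.KOb2dda24.e33.{0, 0}, Cfsg.Agent.KOb2dda24.e36, Cfsg.Agent.KOb2dda24.e50, Cfsg.Agent.KOb2dda24.e35]; decide +kernel) | decide +kernel)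

theorem dec_inj {x y : ℕ} (hx : x < 64) (hy : y < 64) (h : dec x = dec y) : x = y :=
  congrArg Fin.val (dec_inj' ⟨x, hx⟩ ⟨y, hy⟩ h)

/-- words, the first letter acts first -/
def apw : List (Fin 2) → ℕ → ℕ
  | [], x => x
  | c :: w, x => apw w (ap c x)

theorem apw_lt (w : List (Fin 2)) : ∀ {x : ℕ}, x < 64 → apw w x < 64 := by
  induction w with
  | nil => exact fun h => h
  | cons c w ih => exact fun _ => ih (ap_lt c _)

/-- the base -/
def B : Fin 5 → ℕ := ![1, 4, 2, 8, 16]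

/-- the words -/
def W : Fin 5 → List (List (Fin 2)) := ![
  [[],
    [1],
    [1, 0],
    [1, 1],
    [1, 0, 0],
    [1, 0, 1],
    [1, 1, 0],
    [1, 1, 1],
    [1, 0, 0, 0],
    [1, 0, 0, 1],
    [1, 0, 1, 1],
    [1, 1, 1, 0],
    [1, 0, 0, 0, 0],
    [1, 0, 0, 1, 0],
    [1, 0, 1, 1, 0],
    [1, 1, 1, 0, 0],
    [1, 1, 1, 0, 1],
    [1, 0, 0, 0, 0, 0],
    [1, 0, 0, 0, 0, 1],
    [1, 0, 0, 1, 0, 1],
    [1, 0, 1, 1, 0, 0],
    [1, 0, 1, 1, 0, 1],
    [1, 1, 1, 0, 0, 1],
    [1, 1, 1, 0, 1, 1],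
    [1, 0, 0, 0, 0, 0, 1],
    [1, 0, 0, 0, 0, 1, 0],
    [1, 1, 1, 0, 1, 1, 1]],
  [[],
    [0],
    [1, 1, 0, 1, 0, 1, 1],
    [0, 1, 1, 0, 1, 0, 1, 1],
    [1, 1, 0, 1, 0, 1, 1, 0],
    [0, 1, 1, 0, 1, 0, 1, 1, 0],
    [1, 0, 1, 1, 0, 0, 1, 0, 1],
    [1, 1, 0, 1, 0, 0, 0, 1, 1],
    [1, 1, 0, 1, 0, 1, 1, 0, 0],
    [0, 1, 1, 0, 1, 0, 1, 1, 0, 0]],
  [[],
    [0, 1, 1, 0, 0, 1, 1, 0],
    [0, 1, 1, 0, 1, 1, 0, 1, 1],
    [1, 1, 0, 1, 1, 0, 1, 1, 0],
    [0, 1, 1, 0, 0, 1, 1, 0, 0, 0],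
    [0, 1, 0, 1, 0, 1, 0, 0, 1, 0, 1],
    [0, 1, 1, 0, 1, 1, 0, 0, 0, 1, 1],
    [0, 1, 1, 0, 1, 1, 0, 0, 0, 0, 0, 1, 1]],
  [[],
    [0, 0],
    [0, 0, 0, 0],
    [0, 0, 1, 1, 0, 0, 1, 1]],
  [[],
    [1, 1, 0, 0, 1, 1],
    [1, 1, 0, 0, 0, 0, 1, 1]]]


theorem W_length : ∀ j : Fin 5, (W j).length = ![27, 10, 8, 4, 3] j := by decide +kernel

theorem B_lt : ∀ j : Fin 5, B j < 64 := by decide +kernel

theorem fix_all : ∀ j : Fin 5, ∀ w ∈ W j, ∀ i : Fin 5, i < j → apw w (B i) = B i := by decide +kernel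

theorem inj_all : ∀ j : Fin 5, ((W j).map (fun w => apw w (B j))).Nodup := by decide +kernel

/-- the product of permutations along a word -/
def wp (P : Fin 2 → Equiv.Perm X) : List (Fin 2) → Equiv.Perm X
  | [] => 1
  | c :: w => wp P w * P c

theorem wp_dec {P : Fin 2 → Equiv.Perm X} (hP : ∀ c v, P c v = mu (Kw c) v) (w : List (Fin 2)) :
    ∀ {x : ℕ}, x < 64 → wp P w (dec x) = dec (apw w x) := by
  induction w with
  | nil => exact fun _ => rfl
  | cons c w ih =>
    intro x hx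
    rw [wp, Equiv.Perm.mul_apply, hP, mu_dec c hx, ih (ap_lt c x)]
    rfl

theorem wp_mem {P : Fin 2 → Equiv.Perm X} {S : Subgroup (Equiv.Perm X)} (h : ∀ c, P c ∈ S) (w : List (Fin 2)) : wp P w ∈ S := by
  induction w with
  | nil => exact S.one_mem
  | cons c w ih => exact S.mul_mem ih (h c)

/-- **The order of the group generated by the two matrices.** -/
theorem card_ge {P : Fin 2 → Equiv.Perm X} (hP : ∀ c v, P c v = mu (Kw c) v) {S : Subgroup (Equiv.Perm X)}
    (h : ∀ c, P c ∈ S) : 25920 ≤ Nat.card ↥S := by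
  have key := Cfsg.Agent.J4.DCosetThm.card_ge_of_levels S 5 (fun j => dec (B j)) (fun j => (W j).length)
    (fun j a => wp P ((W j).get a)) (fun j a => wp_mem h _)
    (fun j a i hi => by
      show wp P _ (dec (B i)) = dec (B i)
      rw [wp_dec hP _ (B_lt i), fix_all j _ (List.get_mem _ _) i hi])
    (fun j a a' haa => by
      have haa' : wp P ((W j).get a) (dec (B j)) = wp P ((W j).get a') (dec (B j)) := haa
      rw [wp_dec hP _ (B_lt j), wp_dec hP _ (B_lt j)] at haa'
      have h1 := dec_inj (apw_lt _ (B_lt j)) (apw_lt _ (B_lt j)) haa'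
      have h2 := List.nodup_iff_injective_get.1 (inj_all j)
      have hl : ((W j).map (fun w => apw w (B j))).length = (W j).length := List.length_map _
      have h3 := @h2 ⟨a, by rw [hl]; exact a.2⟩ ⟨a', by rw [hl]; exact a'.2⟩ (by simpa using h1)
      have h4 := congrArg Fin.val h3
      exact Fin.ext h4)
  have h2 : ∏ j : Fin 5, (W j).length = 25920 := by
    simp only [W_length]
    decide
  rw [h2] at key
  exact key

end Cfsg.Agent.H604.U33.Mat
end

-- part: H604/U33/ImAbs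
section
/-!
# S5525, part F, piece L4: the image of `K` on `O / U = F₂⁶`, abstract form (helper604)

`im_ge` : `U ≤ O` with `O / U` commutative, generated by six elements `W a` with squares in `U`, `|O / U| ≥ 64`, `K` normalises
both, and `k c ∈ K` acts on the `W a` by the matrix `Kw c`. Then `25920 · |{a ∈ K trivial on O / U}| ≤ |K|`.
-/

set_option autoImplicit false

namespace Cfsg.Agent.H604.U33.ImAbs

open Cfsg.Agent.H863.U33 Cfsg.Agent.H604.U33.Mat
open Subgroup

/-- ordered products of the `W a` -/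
def pr {G : Type*} [Group G] (W : Fin 6 → G) (m : X) : G :=
  W 0 ^ (m 0).val * W 1 ^ (m 1).val * W 2 ^ (m 2).val * W 3 ^ (m 3).val * W 4 ^ (m 4).val * W 5 ^ (m 5).val

theorem pow_val_add {Q : Type*} [Group Q] {w : Q} (hw : w * w = 1) (a b : ZMod 2) :
    w ^ (a + b).val = w ^ a.val * w ^ b.val := by
  have key : ∀ a b : ZMod 2, (a.val = 0 ∧ (a + b).val = b.val) ∨ (b.val = 0 ∧ (a + b).val = a.val) ∨
      (a.val = 1 ∧ b.val = 1 ∧ (a + b).val = 0) := by decide
  rcases key a b with ⟨h1, h2⟩ | ⟨h1, h2⟩ | ⟨h1, h2, h3⟩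
  · rw [h2, h1, pow_zero, one_mul]
  · rw [h2, h1, pow_zero, mul_one]
  · rw [h1, h2, h3, pow_zero, pow_one, hw]

theorem pr_eq {Q : Type*} [CommGroup Q] (W : Fin 6 → Q) (m : X) : pr W m = ∏ i, W i ^ (m i).val := by
  rw [Fin.prod_univ_six]
  rfl

/-- in a commutative group with `W a ^ 2 = 1` : the homomorphism -/
def ps {Q : Type*} [CommGroup Q] (W : Fin 6 → Q) (hW : ∀ a, W a * W a = 1) : X →+ Additive Q where
  toFun m := Additive.ofMul (pr W m)
  map_zero' := by
    rw [pr_eq]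
    have : ∏ i, W i ^ ((0 : X) i).val = 1 := by
      apply Finset.prod_eq_one
      intro i _
      show W i ^ (0 : ZMod 2).val = 1
      rw [ZMod.val_zero, pow_zero]
    rw [this]
    rfl
  map_add' m m' := by
    rw [pr_eq, pr_eq, pr_eq, ← ofMul_mul, ← Finset.prod_mul_distrib]
    congr 1
    apply Finset.prod_congr rfl
    intro i _
    exact pow_val_add (hW i) _ _

theorem mu_eq (A : Fin 6 → Fin 6 → ZMod 2) (m : X) : mu A m = ∑ i, (m i).val • A i := by
  funext j
  rw [Finset.sum_apply]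
  apply Finset.sum_congr rfl
  intro i _
  rw [Pi.smul_apply, nsmul_eq_mul, ZMod.natCast_val, ZMod.cast_id', id]

/-- an endomorphism acting on the generators by the matrix `A` acts on the products by `A` -/
theorem map_pr {Q : Type*} [CommGroup Q] {W : Fin 6 → Q} (hW : ∀ a, W a * W a = 1) {A : Fin 6 → Fin 6 → ZMod 2} (κ : Q →* Q)
    (hκ : ∀ a, κ (W a) = pr W (A a)) (m : X) : κ (pr W m) = pr W (mu A m) := by
  have h1 : pr W (mu A m) = (ps W hW (mu A m)).toMul := rfl
  rw [h1, mu_eq, map_sum, toMul_sum, pr_eq, map_prod]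
  apply Finset.prod_congr rfl
  intro i _
  rw [map_pow, hκ, map_nsmul, toMul_nsmul]
  rfl

theorem pr_single {Q : Type*} [CommGroup Q] (W : Fin 6 → Q) (a : Fin 6) : pr W (Pi.single a 1) = W a := by
  rw [pr_eq, Finset.prod_eq_single a]
  · rw [Pi.single_eq_same]
    have : (1 : ZMod 2).val = 1 := by decide
    rw [this, pow_one]
  · intro b _ hb
    rw [Pi.single_eq_of_ne hb, ZMod.val_zero, pow_zero]
  · intro h
    exact absurd (Finset.mem_univ a) h

section main

variable {G : Type*} [Group G] [Finite G] {O U K : Subgroup G}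

theorem im_ge (hUO : U ≤ O) (hKO : ∀ a ∈ K, ∀ p ∈ O, a⁻¹ * p * a ∈ O) (hKU : ∀ a ∈ K, ∀ p ∈ U, a⁻¹ * p * a ∈ U)
    (hcomm : ∀ p ∈ O, ∀ a ∈ O, p⁻¹ * (a⁻¹ * p * a) ∈ U) {W : Fin 6 → G} (hWO : ∀ a, W a ∈ O) (hW2 : ∀ a, W a * W a ∈ U)
    (hgen : O ≤ _root_.Subgroup.closure ((U : Set G) ∪ Set.range W)) (hidx : 64 ≤ U.relIndex O) {k : Fin 2 → G} (hk : ∀ c, k c ∈ K)
    (hkW : ∀ c a, (pr W (Kw c a))⁻¹ * ((k c)⁻¹ * W a * k c) ∈ U) :
    25920 * Nat.card {a : G // a ∈ K ∧ ∀ p ∈ O, p⁻¹ * (a⁻¹ * p * a) ∈ U} ≤ Nat.card K := by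
  classical
  have hUn : ∀ p ∈ U, ∀ a ∈ O, a⁻¹ * p * a ∈ U := by
    intro p hp a ha
    have h1 := U.mul_mem hp (hcomm p (hUO hp) a ha)
    rwa [mul_inv_cancel_left] at h1
  have hn : (U.subgroupOf O).Normal := by
    constructor
    rintro ⟨x, hx⟩ hx' ⟨s, hs⟩
    have h1 := hUn x hx' s⁻¹ (O.inv_mem hs)
    rw [inv_inv] at h1
    exact h1
  -- the quotient
  let Q := ↥O ⧸ U.subgroupOf O
  have hQc : ∀ a b : Q, a * b = b * a := by
    intro a b
    obtain ⟨a, rfl⟩ := QuotientGroup.mk_surjective a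
    obtain ⟨b, rfl⟩ := QuotientGroup.mk_surjective b
    rw [← QuotientGroup.mk_mul, ← QuotientGroup.mk_mul, QuotientGroup.eq, mem_subgroupOf]
    have h1 := hcomm b b.2 a a.2
    have : ((((a * b)⁻¹ * (b * a) : ↥O)) : G) = (b : G)⁻¹ * ((a : G)⁻¹ * b * a) := by
      push_cast
      group
    rw [this]
    exact h1
  let _ : CommGroup Q := { (inferInstance : Group Q) with mul_comm := hQc }
  let q : ↥O →* Q := QuotientGroup.mk' (U.subgroupOf O)
  have hq : ∀ p p' : ↥O, q p = q p' ↔ (p : G)⁻¹ * p' ∈ U := by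
    intro p p'
    show (QuotientGroup.mk p : Q) = QuotientGroup.mk p' ↔ _
    rw [QuotientGroup.eq, mem_subgroupOf]
    rfl
  have hq1 : ∀ p : ↥O, (p : G) ∈ U → q p = 1 := by
    intro p hp
    rw [← map_one q, hq]
    push_cast
    rw [mul_one]
    exact U.inv_mem hp
  let W' : Fin 6 → Q := fun a => q ⟨W a, hWO a⟩
  have hW' : ∀ a, W' a * W' a = 1 := by
    intro a
    rw [← map_mul]
    exact hq1 _ (hW2 a)
  -- products
  have hpr : ∀ m : X, pr W m ∈ O := by
    intro m
    unfold pr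
    exact O.mul_mem (O.mul_mem (O.mul_mem (O.mul_mem (O.mul_mem (O.pow_mem (hWO _) _) (O.pow_mem (hWO _) _))
      (O.pow_mem (hWO _) _)) (O.pow_mem (hWO _) _)) (O.pow_mem (hWO _) _)) (O.pow_mem (hWO _) _)
  have hprq : ∀ m : X, q ⟨pr W m, hpr m⟩ = pr W' m := by
    intro m
    have h1 : (⟨pr W m, hpr m⟩ : ↥O) = pr (fun a => (⟨W a, hWO a⟩ : ↥O)) m := by
      apply Subtype.ext
      unfold pr
      push_cast
      rfl
    rw [h1]
    unfold pr
    simp only [map_mul, map_pow]
    rfl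
  -- the coordinates
  let f : X → Q := fun m => pr W' m
  have hfsurj : Function.Surjective f := by
    let R : Subgroup Q := AddSubgroup.toSubgroup' (ps W' hW').range
    have hR : ∀ x : Q, x ∈ R ↔ ∃ m, pr W' m = x := by
      intro x
      constructor
      · rintro ⟨m, hm⟩
        exact ⟨m, hm⟩
      · rintro ⟨m, hm⟩
        exact ⟨m, hm⟩
    have h1 : _root_.Subgroup.closure ((U : Set G) ∪ Set.range W) ≤ (R.comap q).map O.subtype := by
      rw [closure_le]
      rintro x (hx | ⟨a, rfl⟩)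
      · refine ⟨⟨x, hUO hx⟩, ?_, rfl⟩
        show q ⟨x, hUO hx⟩ ∈ R
        rw [hq1 _ hx]
        exact R.one_mem
      · refine ⟨⟨W a, hWO a⟩, ?_, rfl⟩
        show W' a ∈ R
        rw [hR]
        exact ⟨Pi.single a 1, pr_single W' a⟩
    intro x
    obtain ⟨p, rfl⟩ := QuotientGroup.mk_surjective x
    obtain ⟨p', hp', hpp⟩ := h1 (hgen p.2)
    have h2 : p' = p := Subtype.ext hpp
    rw [h2] at hp'
    exact (hR _).1 hp'
  have hcardX : Nat.card X = 64 := by
    rw [Nat.card_eq_fintype_card]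
    decide +kernel
  have hcardQ : 64 ≤ Nat.card Q := hidx
  have hfbij : Function.Bijective f := hfsurj.bijective_of_nat_card_le (by rw [hcardX]; exact hcardQ)
  let φ : X ≃ Q := Equiv.ofBijective f hfbij
  -- the action of `K`
  let κ : ↥K → (↥O →* ↥O) := fun a =>
    { toFun := fun p => ⟨(a : G) * p * (a : G)⁻¹, by
        have h := hKO (a : G)⁻¹ (K.inv_mem a.2) p p.2
        rwa [inv_inv] at h⟩
      map_one' := by
        apply Subtype.ext
        show (a : G) * 1 * (a : G)⁻¹ = 1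
        rw [mul_one, mul_inv_cancel]
      map_mul' := by
        intro p p'
        apply Subtype.ext
        show (a : G) * (p * p') * (a : G)⁻¹ = (a : G) * p * (a : G)⁻¹ * ((a : G) * p' * (a : G)⁻¹)
        group }
  have hκU : ∀ a : ↥K, U.subgroupOf O ≤ (U.subgroupOf O).comap (κ a) := by
    intro a p hp
    have h := hKU (a : G)⁻¹ (K.inv_mem a.2) p hp
    rw [inv_inv] at h
    exact h
  let κ' : ↥K → (Q →* Q) := fun a => QuotientGroup.map _ _ (κ a) (hκU a)
  have hκ' : ∀ (a : ↥K) (p : ↥O), κ' a (q p) = q (κ a p) := fun a p => rfl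
  let act : MulAction ↥K Q :=
    { smul := fun a x => κ' a x
      one_smul := by
        intro x
        obtain ⟨p, rfl⟩ := QuotientGroup.mk_surjective x
        show q (κ 1 p) = q p
        congr 1
        apply Subtype.ext
        show (1 : G) * p * (1 : G)⁻¹ = p
        rw [one_mul, inv_one, mul_one]
      mul_smul := by
        intro a b x
        obtain ⟨p, rfl⟩ := QuotientGroup.mk_surjective x
        show q (κ (a * b) p) = q (κ a (κ b p))
        congr 1
        apply Subtype.ext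
        show ((a : G) * b) * p * ((a : G) * b)⁻¹ = (a : G) * (b * p * (b : G)⁻¹) * (a : G)⁻¹
        group }
  let ρ : ↥K →* Equiv.Perm X := (φ.symm.permCongrHom).toMonoidHom.comp (MulAction.toPermHom ↥K Q)
  have hρ : ∀ (a : ↥K) (m : X), ρ a m = φ.symm (κ' a (φ m)) := fun a m => rfl
  have hP : ∀ (c : Fin 2) (v : X), ρ (⟨k c, hk c⟩⁻¹) v = mu (Kw c) v := by
    intro c v
    rw [hρ, Equiv.symm_apply_eq]
    show κ' (⟨k c, hk c⟩⁻¹) (pr W' v) = pr W' (mu (Kw c) v)
    apply map_pr hW'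
    intro a
    show q (κ (⟨k c, hk c⟩⁻¹) ⟨W a, hWO a⟩) = pr W' (Kw c a)
    rw [← hprq, eq_comm, hq]
    show (pr W (Kw c a))⁻¹ * ((k c)⁻¹ * W a * ((k c)⁻¹)⁻¹) ∈ U
    rw [inv_inv]
    exact hkW c a
  have hS := card_ge (P := fun c => ρ (⟨k c, hk c⟩⁻¹)) hP (S := ρ.range) (fun c => ⟨_, rfl⟩)
  -- the kernel
  have hker : Nat.card {a : G // a ∈ K ∧ ∀ p ∈ O, p⁻¹ * (a⁻¹ * p * a) ∈ U} ≤ Nat.card ↥ρ.ker := by
    refine Nat.card_le_card_of_injective (fun a => (⟨⟨a.1, a.2.1⟩, ?_⟩ : ↥ρ.ker)) ?_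
    · have h1 : (⟨a.1, a.2.1⟩ : ↥K)⁻¹ ∈ ρ.ker := by
        rw [MonoidHom.mem_ker]
        apply Equiv.ext
        intro m
        rw [hρ, Equiv.symm_apply_eq, Equiv.Perm.one_apply]
        show κ' (⟨a.1, a.2.1⟩⁻¹) (pr W' m) = pr W' m
        rw [← hprq, hκ', eq_comm, hq]
        show (pr W m)⁻¹ * ((a : G)⁻¹ * pr W m * ((a : G)⁻¹)⁻¹) ∈ U
        rw [inv_inv]
        exact a.2.2 _ (hpr m)
      exact (Subgroup.inv_mem_iff _).1 h1
    · intro a b hab
      have h1 := congrArg (fun z : ↥ρ.ker => ((z : ↥K) : G)) hab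
      exact Subtype.ext h1
  have hmul : Nat.card ↥ρ.ker * Nat.card ↥ρ.range = Nat.card ↥K := by
    rw [← Subgroup.index_ker, Subgroup.card_mul_index]
  rw [← hmul, mul_comm]
  exact Nat.mul_le_mul hker hS

end main

end Cfsg.Agent.H604.U33.ImAbs
end

-- part: H604/U33/StIm
section
/-!
# S5525, part F, piece L4: the image of `K` on `O / U` (helper604)

`stIm : StNF → StO → StIm`, `stK : StNF → StO → StK`.
-/

set_option autoImplicit false
set_option linter.unusedSectionVars false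

namespace Cfsg.Agent.H604.U33.StIm

open Subgroup Cfsg.Agent.H863.U33 Cfsg.Agent.H757.U33 Cfsg.Agent.H604.U33.ImAbs

variable {G : Type} [Group G] {y : G} {e : Fin 8 → G} {t : G} {w : Fin 6 → G} {k : Fin 2 → G} {n : G}

/-- `U` has order at most `2 |P|` -/
theorem card_UU_le [Finite G] (h : TB y e t w k n) : Nat.card (UU y e t) ≤ 2 * Nat.card (PP y e) := by
  have htP : ∀ p ∈ PP y e, t * p * t ∈ PP y e := by
    intro p hp
    have h1 := (mem_N3.1 (t_mem_N3 (w := w) h)).1 p hp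
    have h2 : t⁻¹ = t := inv_eq_of_mul_eq_one_left h.t2
    rwa [h2] at h1
  have htt : ∀ g : G, t * (t * g) = g := by
    intro g
    rw [← mul_assoc, h.t2, one_mul]
  let V : Subgroup G :=
    { carrier := {g | g ∈ PP y e ∨ t * g ∈ PP y e}
      one_mem' := Or.inl (one_mem _)
      mul_mem' := by
        rintro a b (ha | ha) (hb | hb)
        · exact Or.inl (mul_mem ha hb)
        · right
          have h1 := mul_mem (htP a ha) hb
          have h2 : t * a * t * (t * b) = t * (a * b) := by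
            rw [mul_assoc (t * a), htt, mul_assoc]
          rwa [h2] at h1
        · right
          have h1 := mul_mem ha hb
          rwa [mul_assoc] at h1
        · left
          have h1 := mul_mem (htP _ ha) hb
          have h2 : t * (t * a) * t * (t * b) = a * b := by
            rw [htt, mul_assoc, htt]
          rwa [h2] at h1
      inv_mem' := by
        rintro a (ha | ha)
        · exact Or.inl (inv_mem ha)
        · right
          have h1 := htP _ (inv_mem ha)
          have h2 : t⁻¹ = t := inv_eq_of_mul_eq_one_left h.t2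
          have h3 : t * (t * a)⁻¹ * t = t * a⁻¹ := by
            rw [mul_inv_rev, h2, mul_assoc, mul_assoc, h.t2, mul_one]
          rwa [h3] at h1 }
  have hle : UU y e t ≤ V := by
    unfold UU
    rw [closure_le]
    rintro x (hx | hx)
    · exact Or.inl (_root_.Subgroup.subset_closure hx)
    · right
      rw [Set.mem_singleton_iff.1 hx, h.t2]
      exact one_mem _
  refine (card_le_of_le hle).trans ?_
  let F : Bool × PP y e → G := fun z => if z.1 then (z.2 : G) else t * z.2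
  have hF : (V : Set G) ⊆ Set.range F := by
    rintro g (hg | hg)
    · exact ⟨(true, ⟨g, hg⟩), rfl⟩
    · exact ⟨(false, ⟨t * g, hg⟩), htt g⟩
  have h1 : Nat.card V ≤ Nat.card (Set.range F) := Nat.card_mono (Set.toFinite _) hF
  have h2 : Nat.card (Set.range F) ≤ Nat.card (Bool × PP y e) :=
    Nat.card_le_card_of_surjective (Set.rangeFactorization F) Set.rangeFactorization_surjective
  rw [Nat.card_prod] at h2
  have h3 : Nat.card Bool = 2 := by rw [Nat.card_eq_fintype_card]; rfl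
  rw [h3] at h2
  exact h1.trans h2

theorem relIndex_ge [Finite G] (hNF : StNF) (hO : StO) (h : TB y e t w k n) : 64 ≤ (UU y e t).relIndex (OO y e t w) := by
  have h1 := card_UU_le h
  have c1 : Nat.card (PP y e) = 3 ^ 9 := (hNF h).2.2
  have c2 : Nat.card (OO y e t w) = 3 ^ 9 * 2 ^ 7 := hO h
  have h2 := relIndex_mul_relIndex (⊥ : Subgroup G) (UU y e t) (OO y e t w) bot_le UU_le_OO
  rw [relIndex_bot_left, relIndex_bot_left, c2] at h2
  rw [c1] at h1
  by_contra h3
  have h4 : Nat.card (UU y e t) * (UU y e t).relIndex (OO y e t w) ≤ (2 * 3 ^ 9) * 63 :=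
    Nat.mul_le_mul h1 (by omega)
  rw [h2] at h4
  norm_num at h4

/-- **(L4)** -/
theorem stIm (hNF : StNF) (hO : StO) : StIm := by
  intro G _ _ y e t w k n h
  have hN3 : ∀ a ∈ KK y e t w k, a ∈ N3 y e t w := fun a ha => KK_le_N3 h ha
  refine im_ge (O := OO y e t w) (U := UU y e t) (K := KK y e t w k) (W := w) (k := k) UU_le_OO
    (fun a ha => (mem_N3.1 (hN3 a ha)).2.2) (fun a ha => (mem_N3.1 (hN3 a ha)).2.1)
    (fun p hp a ha => comm_OO h hp ha) w_mem ?_ ?_ (relIndex_ge hNF hO h) ?_ ?_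
  · intro a
    rw [h.w2]
    exact pow_mem t_mem _
  · unfold OO
    apply Subgroup.closure_mono
    rintro x (hx | hx)
    · exact Or.inl (_root_.Subgroup.subset_closure hx)
    · exact Or.inr hx
  · intro c
    exact _root_.Subgroup.subset_closure (Or.inr ⟨c, rfl⟩)
  · intro c a
    have h1 : wnf t w (Kw c a) (Ke c a) = pr w (Kw c a) * t ^ (Ke c a).val := rfl
    rw [h.kw, h1, inv_mul_cancel_left]
    exact pow_mem t_mem _

/-- (L4') without further hypotheses -/
theorem stC' (hNF : StNF) (hO : StO) : StC := stC hNF hO (stIm hNF hO)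

end Cfsg.Agent.H604.U33.StIm
end

private theorem dce_7b924d8516cc : _root_.True := by
  try have : _root_.True := by simp only [_root_.Cfsg.Agent.H863.U33.fm.eq_1]
  try have : _root_.True := by simp only [_root_.Cfsg.Agent.H649.U33.pr2.eq_1]
  try have : _root_.True := by simp only [_root_.Cfsg.Agent.H604.U33.Mat.wp.eq_def]
  try have : _root_.True := by simp only [_root_.Cfsg.Agent.H863.U33.nf.eq_1]
  try have : _root_.True := by simp only [_root_.Cfsg.Agent.H604.U33.Mat.wp.eq_1]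
  try have : _root_.True := by simp only [_root_.Cfsg.Agent.H604.U33.Mat.wp.eq_2]
  try have : _root_.True := by simp only [_root_.Cfsg.Agent.H649.U33.pw.eq_1]
  exact _root_.True.intro
end

-- part: H863/U33/Inst
section
prune_inst 0x3010210405000000081800000200206068000002006040012140080009408140a005010134d0021000d28ed0604cc0000010003000300000200088004004012004233222903cbc00110000009804000000000000000000000000000000000000000000000
set_option linter.all false
open scoped Cfsg.Agent.FastGrp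

/-!
# S5525, part F: the instance of `TB` in the Baby Monster (helper863)
-/

set_option autoImplicit false

namespace Cfsg.Agent.H863.U33

open Cfsg.Agent.BabyM.Conc Cfsg.Agent.BabyM.Inst Cfsg.Agent.BabyM.TransInv Cfsg.Agent.H819.U33 Cfsg.Agent.BM.StageW
open Cfsg.Agent.Monster.VecEngine Cfsg.Agent.Monster.VecSpace Cfsg.Agent.BabyM.WordsInst Cfsg.Agent.BabyM.TransCover

/-! ### `y ≠ 1` -/

theorem vecU_apply (x : Pl) (l : ℕ) (hl : U.testBit l = true) : vecU ℚ U x ⟨l, hl⟩ = (val x l : ℚ) := rfl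

theorem ne_of_val {x y : Pl} {l : ℕ} (hl : U.testBit l = true) (h : val x l ≠ val y l) :
    vecU ℚ U x ≠ vecU ℚ U y := by
  intro he
  have h1 := congrFun he ⟨l, hl⟩
  rw [vecU_apply, vecU_apply] at h1
  exact h (by exact_mod_cast h1)

theorem mv_sound {v : List Ltr} {x : Pl} {l : ℕ} (h : mv v x l = true) : W v (vecU ℚ U x) ≠ vecU ℚ U x := by
  unfold mv at h
  rw [Bool.and_eq_true] at h
  obtain ⟨a, ha, h1⟩ := W_run h.2
  rw [← ha]
  rw [Bool.not_eq_true', decide_eq_false_iff_not] at h1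
  exact ne_of_val h.1 h1

/-- a word moving a vector is not trivial -/
theorem ne_one_of_mv {v : List Ltr} {x : Pl} {l : ℕ} (h : mv v x l = true) : g v ≠ 1 := by
  intro h0
  have h2 : Wg v = 1 := inv_eq_one.1 h0
  have h1 : (Wg v : V ≃ₗ[ℚ] V) (vecU ℚ U x) = vecU ℚ U x := by rw [h2]; rfl
  exact mv_sound h h1

theorem y_ne : g wy1 ≠ 1 := ne_one_of_mv c_y1

/-! ### Words of normal forms -/

theorem y_three : g wy1 ^ 3 = 1 := by
  have h := eq_of c_y3
  rw [g_append, g_append, g_nil] at h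
  rw [pow_succ, pow_succ, pow_one, h]

/-- the first four generators -/
noncomputable def E (i : Fin 4) : G := g (we (Fin.castAdd 4 i))

theorem E_three (i : Fin 4) : E i ^ 3 = 1 := by
  have h := eq_of (c_e3 i)
  rw [g_append, g_append, g_nil] at h
  rw [pow_succ, pow_succ, pow_one]
  exact h

theorem g_wp {w : List Ltr} (h : g w ^ 3 = 1) (k : ZMod 3) : g (wp w k) = g w ^ k.val := by
  fin_cases k
  · exact g_nil.trans (pow_zero _).symm
  · exact (pow_one _).symm
  · show g (winv w) = g w ^ 2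
    rw [g_winv, inv_eq_iff_mul_eq_one, ← pow_succ', h]

theorem g_p4 (a b c d : ZMod 3) : g (p4 a b c d) = E 0 ^ a.val * E 1 ^ b.val * E 2 ^ c.val * E 3 ^ d.val := by
  unfold p4
  rw [g_append, g_append, g_append]
  have h0 : g we0 ^ 3 = 1 := E_three 0
  have h1 : g we1 ^ 3 = 1 := E_three 1
  have h2 : g we2 ^ 3 = 1 := E_three 2
  have h3 : g we3 ^ 3 = 1 := E_three 3
  rw [g_wp h0, g_wp h1, g_wp h2, g_wp h3]
  rfl

theorem cpow {G : Type*} [Group G] (r x : G) (n : ℕ) : (r⁻¹ * x * r) ^ n = r⁻¹ * x ^ n * r := by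
  have h := conj_pow (i := n) (a := r⁻¹) (b := x)
  rwa [inv_inv] at h

/-- the generators of `P` -/
noncomputable def eG (j : Fin 8) : G := g (we j)

theorem eG_nat (i : Fin 4) : eG (Fin.natAdd 4 i) = (g wr)⁻¹ * E i * g wr := by
  fin_cases i <;> exact g_cj _ _

theorem g_nfw (v : Fin 8 → ZMod 3) (c : ZMod 3) : g (nfw v c) = nf (g wy1) eG v c := by
  unfold nfw nf
  rw [g_append, g_append, g_p4, g_wp y_three]
  have h4 : eG 4 = (g wr)⁻¹ * E 0 * g wr := eG_nat 0
  have h5 : eG 5 = (g wr)⁻¹ * E 1 * g wr := eG_nat 1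
  have h6 : eG 6 = (g wr)⁻¹ * E 2 * g wr := eG_nat 2
  have h7 : eG 7 = (g wr)⁻¹ * E 3 * g wr := eG_nat 3
  have h0 : eG 0 = E 0 := rfl
  have h1 : eG 1 = E 1 := rfl
  have h2 : eG 2 = E 2 := rfl
  have h3 : eG 3 = E 3 := rfl
  rw [h0, h1, h2, h3, h4, h5, h6, h7, cpow, cpow, cpow, cpow]
  split_ifs with h
  · rw [h.1, h.2.1, h.2.2.1, h.2.2.2, g_nil]
    simp only [ZMod.val_zero, pow_zero, mul_one, inv_mul_cancel]
  · rw [g_cj, g_p4]
    simp only [mul_assoc, mul_inv_cancel_left]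

theorem of_chk {s : List Ltr} {M : Fin 8 → Fin 8 → ZMod 3} {C : Fin 8 → ZMod 3}
    (h : ∀ j : Fin 8, chk (we j ++ s) (s ++ nfw (M j) (C j)) = true) (j : Fin 8) :
    (g s)⁻¹ * eG j * g s = nf (g wy1) eG (M j) (C j) := by
  have h1 := eq_of (h j)
  rw [g_append, g_append, g_nfw] at h1
  rw [mul_assoc]
  show (g s)⁻¹ * (g (we j) * g s) = _
  rw [h1, inv_mul_cancel_left]

theorem comm_ty : g wt * g wy1 = g wy1 * g wt := comm_of c_ty

theorem r_y : g wr * g wy1 = g wy1 * g wr := comm_of (c_wy 1)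

theorem r_r : g wr * g wr = 1 := by
  have h := eq_of (c_wsq 1)
  rw [g_append] at h
  exact h.trans g_nil

theorem E_y (i : Fin 4) : E i * g wy1 = g wy1 * E i := comm_of (c_ey i)

theorem e_y (j : Fin 8) : eG j * g wy1 = g wy1 * eG j := by
  refine Fin.addCases (m := 4) (n := 4) (motive := fun j : Fin 8 => eG j * g wy1 = g wy1 * eG j) (fun i => E_y i) (fun i => ?_) j
  rw [eG_nat]
  have h1 : Commute (g wr) (g wy1) := r_y
  have h2 : Commute (E i) (g wy1) := E_y i
  exact ((h1.inv_left.mul_left h2).mul_left h1)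

theorem fm_neg : ∀ i j, fm j i = - fm i j := by decide

theorem fm_nn : ∀ i j : Fin 4, fm (Fin.natAdd 4 i) (Fin.natAdd 4 j) = fm (Fin.castAdd 4 i) (Fin.castAdd 4 j) := by decide

theorem fm_cn : ∀ i j : Fin 4, fm (Fin.castAdd 4 i) (Fin.natAdd 4 j) = 0 := by decide

theorem fm_nc : ∀ i j : Fin 4, fm (Fin.natAdd 4 i) (Fin.castAdd 4 j) = 0 := by decide

theorem ypow_neg {y : G} (h : y ^ 3 = 1) (k : ZMod 3) : y ^ (-k).val * y ^ k.val = 1 := by
  rw [← pow_add]
  have : (-k).val + k.val = 0 ∨ (-k).val + k.val = 3 := by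
    fin_cases k
    · left; rfl
    · right; rfl
    · right; rfl
  rcases this with h1 | h1
  · rw [h1, pow_zero]
  · rw [h1, h]

theorem ee_le {i j : Fin 4} (h : i ≤ j) : E i * E j = g wy1 ^ (fm (Fin.castAdd 4 i) (Fin.castAdd 4 j)).val * E j * E i := by
  have h1 := eq_of (c_ee i j h)
  rw [g_append, g_append, g_append, g_wp y_three] at h1
  rw [mul_assoc]
  exact h1

theorem E_E (i j : Fin 4) : E i * E j = g wy1 ^ (fm (Fin.castAdd 4 i) (Fin.castAdd 4 j)).val * E j * E i := by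
  rcases le_total i j with h | h
  · exact ee_le h
  · have h1 := ee_le h
    have h2 : fm (Fin.castAdd 4 i) (Fin.castAdd 4 j) = - fm (Fin.castAdd 4 j) (Fin.castAdd 4 i) := fm_neg _ _
    rw [h2, mul_assoc, h1, ← mul_assoc, ← mul_assoc, ypow_neg y_three, one_mul]

theorem E_F_le {i j : Fin 4} (h : i ≤ j) : Commute (E i) ((g wr)⁻¹ * E j * g wr) := by
  have h1 : g (we (Fin.castAdd 4 i)) * g (cj wr (we (Fin.castAdd 4 j))) =
    g (cj wr (we (Fin.castAdd 4 j))) * g (we (Fin.castAdd 4 i)) := comm_of (c_ef i j h)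
  rw [g_cj] at h1
  exact h1

theorem rinv : (g wr)⁻¹ = g wr := inv_eq_of_mul_eq_one_left r_r

theorem E_F (i j : Fin 4) : Commute (E i) ((g wr)⁻¹ * E j * g wr) := by
  rcases le_total i j with h | h
  · exact E_F_le h
  · have h1 : Commute (E j) ((g wr)⁻¹ * E i * g wr) := E_F_le h
    have h2 : (g wr)⁻¹ * (E j * ((g wr)⁻¹ * E i * g wr)) * g wr = (g wr)⁻¹ * (((g wr)⁻¹ * E i * g wr) * E j) * g wr := by
      rw [h1.eq]
    have h3 : (g wr)⁻¹ * (E j * ((g wr)⁻¹ * E i * g wr)) * g wr = ((g wr)⁻¹ * E j * g wr) * E i := by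
      rw [rinv]
      have : g wr * (E j * (g wr * E i * g wr)) * g wr = (g wr * E j * g wr) * (E i * (g wr * g wr)) := by
        simp only [mul_assoc]
      rw [this, r_r, mul_one]
    have h4 : (g wr)⁻¹ * (((g wr)⁻¹ * E i * g wr) * E j) * g wr = E i * ((g wr)⁻¹ * E j * g wr) := by
      rw [rinv]
      have : g wr * (g wr * E i * g wr * E j) * g wr = (g wr * g wr) * E i * (g wr * E j * g wr) := by
        simp only [mul_assoc]
      rw [this, r_r, one_mul]
    rw [h3, h4] at h2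
    exact h2.symm

theorem e_e (i j : Fin 8) : eG i * eG j = g wy1 ^ (fm i j).val * eG j * eG i := by
  refine Fin.addCases (m := 4) (n := 4) (motive := fun i : Fin 8 => eG i * eG j = g wy1 ^ (fm i j).val * eG j * eG i)
    (fun i => ?_) (fun i => ?_) i
  · refine Fin.addCases (m := 4) (n := 4) (motive := fun j : Fin 8 => eG (Fin.castAdd 4 i) * eG j =
      g wy1 ^ (fm (Fin.castAdd 4 i) j).val * eG j * eG (Fin.castAdd 4 i)) (fun j => E_E i j) (fun j => ?_) j
    rw [fm_cn, eG_nat, ZMod.val_zero, pow_zero, one_mul]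
    exact (E_F i j).eq
  · refine Fin.addCases (m := 4) (n := 4) (motive := fun j : Fin 8 => eG (Fin.natAdd 4 i) * eG j =
      g wy1 ^ (fm (Fin.natAdd 4 i) j).val * eG j * eG (Fin.natAdd 4 i)) (fun j => ?_) (fun j => ?_) j
    · rw [fm_nc, eG_nat, ZMod.val_zero, pow_zero, one_mul]
      exact (E_F j i).eq.symm
    · rw [fm_nn, eG_nat, eG_nat]
      have h1 := E_E i j
      have h2 : (g wr)⁻¹ * E i * g wr * ((g wr)⁻¹ * E j * g wr) = (g wr)⁻¹ * (E i * E j) * g wr := by
        simp only [mul_assoc, mul_inv_cancel_left]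
      have hc : Commute ((g wr)⁻¹) (g wy1 ^ (fm (Fin.castAdd 4 i) (Fin.castAdd 4 j)).val) :=
        (Commute.pow_right (show Commute (g wr) (g wy1) from r_y) _).inv_left
      have h3 : (g wr)⁻¹ * (g wy1 ^ (fm (Fin.castAdd 4 i) (Fin.castAdd 4 j)).val * E j * E i) * g wr =
          g wy1 ^ (fm (Fin.castAdd 4 i) (Fin.castAdd 4 j)).val * ((g wr)⁻¹ * E j * g wr) * ((g wr)⁻¹ * E i * g wr) := by
        rw [← mul_assoc, ← mul_assoc, hc.eq]
        simp only [mul_assoc, mul_inv_cancel_left]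
      rw [h2, h1, h3]

theorem e_three (j : Fin 8) : eG j ^ 3 = 1 := by
  refine Fin.addCases (m := 4) (n := 4) (motive := fun j : Fin 8 => eG j ^ 3 = 1) (fun i => E_three i) (fun i => ?_) j
  rw [eG_nat, cpow, E_three, mul_one, inv_mul_cancel]

/-! ### `W` -/

/-- the generators of `W` -/
noncomputable def wG (a : Fin 6) : G := g (ww a)

/-- the generators of `K` -/
noncomputable def kG (c : Fin 2) : G := g (wk c)

theorem g_w2p (w : List Ltr) (k : ZMod 2) : g (w2p w k) = g w ^ k.val := by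
  fin_cases k
  · exact g_nil.trans (pow_zero _).symm
  · exact (pow_one _).symm

theorem g_wnfw (m : Fin 6 → ZMod 2) (c : ZMod 2) : g (wnfw m c) = wnf (g wt) wG m c := by
  unfold wnfw wnf
  rw [g_append, g_append, g_append, g_append, g_append, g_append, g_w2p, g_w2p, g_w2p, g_w2p, g_w2p, g_w2p, g_w2p]
  rfl

theorem t_t : g wt * g wt = 1 := by
  have h := eq_of c_t2
  rwa [g_append, g_nil] at h

theorem w_t (a : Fin 6) : wG a * g wt = g wt * wG a := comm_of (c_wt a)

theorem w_w_le {a b : Fin 6} (h : a ≤ b) : wG a * wG b = g wt ^ (bc a b).val * (wG b * wG a) := by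
  have h1 := eq_of (c_ww a b h)
  rw [g_append, g_append, g_append, g_w2p] at h1
  exact h1

theorem bc_symm : ∀ a b, bc a b = bc b a := by decide

theorem tpow_sq (k : ZMod 2) : g wt ^ k.val * g wt ^ k.val = 1 := by
  fin_cases k
  · show g wt ^ 0 * g wt ^ 0 = 1
    rw [pow_zero, one_mul]
  · show g wt ^ 1 * g wt ^ 1 = 1
    rw [pow_one, t_t]

theorem w_w (a b : Fin 6) : wG a * wG b = g wt ^ (bc a b).val * wG b * wG a := by
  rcases le_total a b with h | h
  · rw [mul_assoc]
    exact w_w_le h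
  · have h1 := w_w_le h
    rw [bc_symm, mul_assoc, h1, ← mul_assoc, tpow_sq, one_mul]

theorem w_sq (a : Fin 6) : wG a * wG a = g wt ^ (sqw a).val := by
  have h := eq_of (c_wsq a)
  rw [g_append, g_w2p] at h
  exact h

theorem w_e (a : Fin 6) (j : Fin 8) : (wG a)⁻¹ * eG j * wG a = nf (g wy1) eG (Mw a j) (Cw a j) := by
  fin_cases a
  · exact of_chk c_w0 j
  · exact of_chk c_w1 j
  · exact of_chk c_w2 j
  · exact of_chk c_w3 j
  · exact of_chk c_w4 j
  · exact of_chk c_w5 j

theorem k_e (c : Fin 2) (j : Fin 8) : (kG c)⁻¹ * eG j * kG c = nf (g wy1) eG (Mk c j) (Ck c j) := by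
  fin_cases c
  · exact of_chk c_k0 j
  · exact of_chk c_k1 j

theorem k_w (c : Fin 2) (a : Fin 6) : (kG c)⁻¹ * wG a * kG c = wnf (g wt) wG (Kw c a) (Ke c a) := by
  have h1 := eq_of (c_kw c a)
  rw [g_append, g_append, g_wnfw] at h1
  rw [mul_assoc]
  show (g (wk c))⁻¹ * (g (ww a) * g (wk c)) = _
  rw [h1, inv_mul_cancel_left]

theorem n_w (a : Fin 6) : (g wn)⁻¹ * wG a * g wn = wnf (g wt) wG (Nw a) (Ne a) := by
  have h1 := eq_of (c_nw a)
  rw [g_append, g_append, g_wnfw] at h1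
  rw [mul_assoc]
  show (g wn)⁻¹ * (g (ww a) * g wn) = _
  rw [h1, inv_mul_cancel_left]

theorem n_y : (g wn)⁻¹ * g wy1 * g wn = (g wy1)⁻¹ := by
  have h1 := eq_of c_ny
  rw [g_append, g_append, g_winv] at h1
  rw [mul_assoc, h1, inv_mul_cancel_left]

/-- **The instance.** -/
theorem tb : TB (g wy1) eG (g wt) wG kG (g wn) where
  y3 := y_three
  y1 := y_ne
  e3 := e_three
  ey := e_y
  ee := e_e
  t2 := t_t
  ty := comm_ty
  te := of_chk c_t
  w2 := w_sq
  wt := w_t
  wy a := comm_of (c_wy a)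
  ww := w_w
  we := w_e
  kt c := comm_of (c_kt c)
  ky c := comm_of (c_ky c)
  kw := k_w
  ke := k_e
  nt := comm_of c_nt
  ny := n_y
  nw := n_w
  ne := of_chk c_n

/-- `y1` is a cube -/
theorem w9_cube : g w9 ^ 3 = g wy1 := by
  have h := eq_of c_w9
  rw [g_append, g_append] at h
  rw [pow_succ, pow_succ, pow_one, h]

end Cfsg.Agent.H863.U33
end

-- part: H863/U33/Link
section
set_option linter.all false
open scoped Cfsg.Agent.FastGrp

/-!
# S5525: link words (helper863, helper840)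

`c⁻¹ (f τ) c = y1`, `l⁻¹ y1 l = x27`, `l⁻¹ e0 l = f`, `s⁻¹ pB s = y1`, `s⁻¹ y1 s ∈ P1`.
-/

set_option autoImplicit false
set_option Elab.async false

namespace Cfsg.Agent.H863.U33

open Cfsg.Agent.BabyM.Conc Cfsg.Agent.BabyM.Inst Cfsg.Agent.BabyM.TransInv Cfsg.Agent.H819.U33 Cfsg.Agent.BM.StageW

/-- `c` -/
def wc : List Ltr :=
  [.y1, .p4, .hi, .p10, .xii, .taui, .X0, .X4, .Z5, .xi, .p5, .h, .p8, .y4, .p8]

/-- `l` -/
def wl : List Ltr :=
  [.xi, .p4, .h, .y10, .p7, .xii, .hi, .p4, .y4, .p10, .Z5, .Z2, .Z1, .X9, .X8, .X5, .X1, .tau, .X4, .y7, .p8,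
  .xii, .p6, .xi, .y3, .p2, .y7, .xii, .y4, .taui]

/-- `s` -/
def wsw : List Ltr :=
  [.X0, .X1, .X2, .X3, .X4, .X5, .X6, .X7, .X9, .Z1, .Z2, .Z3, .Z4, .Z8, .Z9, .p10, .y9, .xii, .y9, .y1, .xii,
  .p, .y1, .xi, .p4, .h, .y10, .p7, .xii, .hi, .p4, .y4, .p10, .Z5, .Z2, .Z1, .X9, .X8, .X5, .X1, .tau, .X4,
  .y7, .p8, .xii, .p6, .xi, .y3, .p2, .y7, .xii, .y4, .taui, .p5, .y5, .p6, .Z0, .Z4, .Z7, .p4, .y4, .y9, .p7,
  .Z7, .X8, .X5, .X4, .X1, .X0, .taui, .y4, .xi, .y7, .p9, .y3, .xii, .p5, .xi, .p3, .y7, .X4, .taui, .X1, .X5,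
  .X8, .X9, .Z1, .Z2, .Z5, .p, .y4, .p7, .h, .xi, .p4, .y10, .hi, .p7, .xii]

/-- half of the word of `x27` -/
def wx27h : List Ltr :=
  [.X10, .X0, .X1, .X4, .X5, .X8, .Z2, .Z9, .y4, .xi, .y7, .p9, .y3, .xii, .p5, .xi, .p3, .y7, .X4, .taui, .X4,
  .y7, .p8, .xii, .p6, .xi, .y3, .p2, .y7, .xii, .y4, .X3, .X4, .X5, .X6, .Z5, .z, .tau]

/-- the word of `x27` -/
def wx27 : List Ltr := wx27h ++ wx27h

/-- the coordinates of `s⁻¹ y1 s` -/
def vS : Fin 8 → ZMod 3 := ![0, 0, 0, 1, 2, 0, 0, 1]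

theorem c_c : chk (wy ++ wc) (wc ++ wy1) = true := Cfsg.Agent.BMx.Bridge.chk_of_eqF (by decide +kernel)

theorem c_l1 : chk (wy1 ++ wl) (wl ++ wx27) = true := Cfsg.Agent.BMx.Bridge.chk_of_eqF (by decide +kernel)

theorem c_l2 : chk (we0 ++ wl) (wl ++ wf) = true := Cfsg.Agent.BMx.Bridge.chk_of_eqF (by decide +kernel)

theorem c_s1 : chk (nfw vB 0 ++ wsw) (wsw ++ wy1) = true := Cfsg.Agent.BMx.Bridge.chk_of_eqF (by decide +kernel)

theorem c_s2 : chk (wy1 ++ wsw) (wsw ++ nfw vS 2) = true := Cfsg.Agent.BMx.Bridge.chk_of_eqF (by decide +kernel)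

theorem of_comm {a b c : List Ltr} (h : chk (a ++ b) (b ++ c) = true) : (g b)⁻¹ * g a * g b = g c := by
  have h1 := eq_of h
  rw [g_append, g_append] at h1
  rw [mul_assoc, h1, inv_mul_cancel_left]

/-- the element `pB` of class 3B in `P1` -/
noncomputable def pB : G := nf (g wy1) eG vB 0

/-- the element `x27` -/
noncomputable def x27 : G := g wx27

theorem hc : (g wc)⁻¹ * g wy * g wc = g wy1 := of_comm c_c

theorem hl1 : (g wl)⁻¹ * g wy1 * g wl = x27 := of_comm c_l1

theorem hl2 : (g wl)⁻¹ * eG 0 * g wl = g wf := of_comm c_l2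

theorem hs1 : (g wsw)⁻¹ * pB * g wsw = g wy1 := by
  unfold pB
  rw [← g_nfw]
  exact of_comm c_s1

theorem hs2' : (g wsw)⁻¹ * g wy1 * g wsw = nf (g wy1) eG vS 2 := by
  rw [← g_nfw]
  exact of_comm c_s2

theorem nf_mem' (v : Fin 8 → ZMod 3) (b : ZMod 3) : nf (g wy1) eG v b ∈ PP (g wy1) eG := by
  have hy : g wy1 ∈ PP (g wy1) eG := Subgroup.subset_closure (Or.inl rfl)
  have he : ∀ j, eG j ∈ PP (g wy1) eG := fun j => Subgroup.subset_closure (Or.inr ⟨j, rfl⟩)
  unfold nf
  exact mul_mem (mul_mem (mul_mem (mul_mem (mul_mem (mul_mem (mul_mem (mul_mem (pow_mem (he _) _) (pow_mem (he _) _))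
    (pow_mem (he _) _)) (pow_mem (he _) _)) (pow_mem (he _) _)) (pow_mem (he _) _)) (pow_mem (he _) _))
    (pow_mem (he _) _)) (pow_mem hy _)

theorem hs2 : (g wsw)⁻¹ * g wy1 * g wsw ∈ PP (g wy1) eG := by
  rw [hs2']
  exact nf_mem' _ _

end Cfsg.Agent.H863.U33
end
end
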